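import Groth.Agent.MilnorK.Algebraic

/-! Divisibility by an integer and finite extensions; symbols of length two. -/

namespace Groth.Agent.MilnorK

open MilK Function Polynomial IsLocalRing

set_option linter.unusedSectionVars false

universe u

section Sym

variable {F : Type u} [Field F]

/-- The symbol of two units. -/
noncomputable def s2 : Additive Fˣ →+ Additive Fˣ →+ K F 2 :=
  AddMonoidHom.mk' (fun a => AddMonoidHom.mk' (fun b => symbol ![a.toMul, b.toMul]) fun b c => by
    have h := symbol_update_mul ![a.toMul, (1 : Fˣ)] 1 b.toMul c.toMul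
    have e : ∀ t : Fˣ, update ![a.toMul, (1 : Fˣ)] 1 t = ![a.toMul, t] := fun t => by
      funext i; fin_cases i <;> simp
    rw [e, e, e] at h; exact h)
    fun a b => by
      refine AddMonoidHom.ext fun c => ?_
      have h := symbol_update_mul ![(1 : Fˣ), c.toMul] 0 a.toMul b.toMul
      have e : ∀ t : Fˣ, update ![(1 : Fˣ), c.toMul] 0 t = ![t, c.toMul] := fun t => by
        funext i; fin_cases i <;> simp
      rw [e, e, e] at h; exact h

theorem s2_apply (a b : Fˣ) : s2 (.ofMul a) (.ofMul b) = (symbol ![a, b] : K F 2) := rfl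

theorem sym_mul_left (a b c : Fˣ) : (symbol ![a * b, c] : K F 2) = symbol ![a, c] + symbol ![b, c] := by
  simp only [← s2_apply, ofMul_mul, map_add, AddMonoidHom.add_apply]

theorem sym_mul_right (a b c : Fˣ) : (symbol ![a, b * c] : K F 2) = symbol ![a, b] + symbol ![a, c] := by
  simp only [← s2_apply, ofMul_mul, map_add]

theorem sym_one_left (a : Fˣ) : (symbol ![1, a] : K F 2) = 0 := symbol_eq_zero_of_one _ 0 rfl

theorem sym_one_right (a : Fˣ) : (symbol ![a, 1] : K F 2) = 0 := symbol_eq_zero_of_one _ 1 rfl

theorem sym_pow_left (a b : Fˣ) (n : ℕ) : (symbol ![a ^ n, b] : K F 2) = n • symbol ![a, b] := by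
  simp only [← s2_apply, ofMul_pow, map_nsmul, AddMonoidHom.smul_apply]

theorem sym_pow_right (a b : Fˣ) (n : ℕ) : (symbol ![a, b ^ n] : K F 2) = n • symbol ![a, b] := by
  simp only [← s2_apply, ofMul_pow, map_nsmul]

theorem sym_inv_left (a b : Fˣ) : (symbol ![a⁻¹, b] : K F 2) = -symbol ![a, b] := by
  simp only [← s2_apply, ofMul_inv, map_neg, AddMonoidHom.neg_apply]

theorem sym_inv_right (a b : Fˣ) : (symbol ![a, b⁻¹] : K F 2) = -symbol ![a, b] := by
  simp only [← s2_apply, ofMul_inv, map_neg]

theorem sym_swap (a b : Fˣ) : (symbol ![b, a] : K F 2) = -symbol ![a, b] := by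
  rw [← symbol_swap ![a, b] 0 1 (by decide)]
  congr 1
  funext i; fin_cases i <;> simp

theorem sym_stein (a b : Fˣ) (h : (a : F) + b = 1) : (symbol ![a, b] : K F 2) = 0 :=
  symbol_stein ![a, b] (i := 0) (j := 1) (by decide) h

theorem sym_self_neg (a : Fˣ) : (symbol ![a, -a] : K F 2) = 0 :=
  symbol_self_neg ![a, -a] (i := 0) (j := 1) (by decide) rfl

theorem map_sym {E : Type u} [Field E] (φ : F →+* E) (a b : Fˣ) :
    MilK.map φ 2 (symbol ![a, b]) = symbol ![Units.map (φ : F →* E) a, Units.map (φ : F →* E) b] := by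
  rw [map_symbol]
  congr 1
  funext i; fin_cases i <;> rfl

end Sym

variable (k : Type u) [Field k]

/-- If an element becomes divisible by `p` in a simple extension, then so does its multiple by the degree. -/
theorem exists_smul_of_simple {E : Type u} [Field E] [Algebra k E] [FiniteDimensional k E]
    (a : E) (hgen : IntermediateField.adjoin k ({a} : Set E) = ⊤) {n : ℕ} (p : ℕ) (x : K k n) (w : K E n)
    (hx : MilK.map (algebraMap k E) n x = p • w) : ∃ c : K k n, Module.finrank k E • x = p • c := by
  classical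
  have hint : IsIntegral k a := IsIntegral.of_finite k a
  set π := minpoly k a
  have hπm : π.Monic := minpoly.monic hint
  have hπi : Irreducible π := minpoly.irreducible hint
  have hdeg : Module.finrank k E = π.natDegree := by
    rw [← IntermediateField.adjoin.finrank hint, hgen, IntermediateField.finrank_top']
  obtain ⟨P, hP⟩ := exists_pGen_eq (Equiv.refl (MaximalSpectrum k[X])) hπm hπi
  set A : MaximalSpectrum k[X] → Type u := fun P => Loc k P
  set m := Equiv.refl (MaximalSpectrum k[X])
  let g : AdjoinRoot π →+* ResidueField (A P) :=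
    AdjoinRoot.lift ((ev A P).comp C) (ev A P X) (by
      rw [← hom_eval₂, eval₂_C_X]
      exact (ev_eq_zero_iff (A := A) m P π).2 (by rw [hP]))
  let e : AdjoinRoot π ≃ₐ[k] E :=
    (IntermediateField.adjoinRootEquivAdjoin k hint).trans
      ((IntermediateField.equivOfEq hgen).trans IntermediateField.topEquiv)
  obtain ⟨w', hr⟩ : ∃ w', MilK.map ((ev A P).comp C) n x = p • w' := by
    have : (ev A P).comp C = (g.comp e.symm.toRingEquiv.toRingHom).comp (algebraMap k E) := by
      refine RingHom.ext fun c => ?_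
      show _ = g (e.symm (algebraMap k E c))
      rw [AlgEquiv.commutes, AdjoinRoot.algebraMap_eq, AdjoinRoot.lift_of]
    exact ⟨MilK.map (g.comp e.symm.toRingEquiv.toRingHom) n w, by rw [this, ← map_map, hx, map_nsmul]⟩
  obtain ⟨z, hz⟩ := exists_preimage (A := A) m (Pi.single (M := fun Q => K (ResidueField (A Q)) n) P w')
    ((Set.finite_singleton P).subset fun Q hQ => by
      by_contra h
      exact hQ (Pi.single_eq_of_ne (M := fun Q => K (ResidueField (A Q)) n) h w'))
  set y := cons n (.ofMul (pUnit toRat π)) (MilK.map (algebraMap k (RatFunc k)) n x)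
  have hy : ∀ Q, dAt (A := A) m Q n (y - p • z) = 0 := by
    intro Q
    rw [map_sub, map_nsmul, hz, sub_eq_zero, dAt, tame_cons_const]
    rcases eq_or_ne Q P with rfl | hne
    · rw [Pi.single_eq_same, hr, ← hP, pUnit_pGen (A := A) m, ord_pi, one_smul]
    · have hnd : ¬ pGen m Q ∣ π := by
        intro hd
        rw [← hP] at hd
        exact hne (pGen_injective m (eq_of_monic_of_associated (pGen_monic m Q) (pGen_monic m P)
          ((pGen_irreducible m Q).associated_of_dvd (pGen_irreducible m P) hd)))
      rw [Pi.single_eq_of_ne hne, smul_zero, pUnit_eq_unitToFrac (A := A) m hnd, ord_unit, zero_smul]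
  obtain ⟨c, hc⟩ := (mem_range_iff (A := A) m _).2 hy
  obtain ⟨O, hO⟩ := exists_pGen_eq m monic_X irreducible_X
  have hcσ := congrArg (MilK.map (invSubst k) (n + 1)) hc
  have hσk : (invSubst k).comp (algebraMap k (RatFunc k)) = algebraMap k (RatFunc k) :=
    RingHom.ext invSubst_C
  rw [map_sub, map_nsmul, map_cons, map_map, map_map, hσk] at hcσ
  have h0 : dAt (A := A) m O n (MilK.map (algebraMap k (RatFunc k)) (n + 1) c) = 0 :=
    dAt_map_eq_zero m O c
  rw [hcσ, map_sub, map_nsmul, sub_eq_zero] at h0
  generalize dAt (A := A) m O n (MilK.map (invSubst k) (n + 1) z) = q at h0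
  rw [dAt, tame_cons_const] at h0
  have hnd : ¬ pGen m O ∣ π.reverse := by
    rw [hO, X_dvd_iff, coeff_zero_reverse, hπm.leadingCoeff]
    exact one_ne_zero
  have hP' : Units.map (invSubst k : RatFunc k →* RatFunc k) (pUnit toRat π)
      = unitFrac (A O) (RatFunc k) (algebraMap k[X] (A O) (pGen m O))
          (irreducible_pGen_map (A := A) m O).ne_zero ^ (-(π.natDegree : ℤ))
        * unitToFrac (A O) (RatFunc k) (isUnit_map_of_not_dvd (A := A) m hnd).unit := by
    rw [← pUnit_pGen (A := A) m O, ← pUnit_eq_unitToFrac (A := A) m hnd]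
    apply Units.ext
    rw [Units.coe_map, MonoidHom.coe_coe, pUnit_val _ (toRat_ne_zero hπm.ne_zero), invSubst_toRat,
      Units.val_mul, Units.val_zpow_eq_zpow_val,
      pUnit_val _ (toRat_ne_zero (pGen_monic m O).ne_zero),
      pUnit_val _ (toRat_ne_zero (reverse_eq_zero.not.2 hπm.ne_zero)), hO, zpow_neg, zpow_natCast]
    have : Invertible (RatFunc.X : RatFunc k)⁻¹ := invertibleOfNonzero (inv_ne_zero RatFunc.X_ne_zero)
    have key := eval₂_reverse_mul_pow (RatFunc.C : k →+* RatFunc k) (RatFunc.X : RatFunc k)⁻¹ π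
    rw [invOf_eq_inv, inv_inv] at key
    rw [← key, mul_comm, inv_pow]
    congr 1
    rw [← RatFunc.algebraMap_X, show (RatFunc.C : k →+* RatFunc k)
      = (algebraMap k[X] (RatFunc k)).comp C from RingHom.ext fun r => (RatFunc.algebraMap_C r).symm,
      ← hom_eval₂, eval₂_C_X]
  rw [hP', ord_apply (irreducible_pGen_map (A := A) m O)] at h0
  have hbij : Bijective ((ev A O).comp (C : k →+* k[X])) := by
    refine ⟨((ev A O).comp (C : k →+* k[X])).injective, fun z => ⟨(rep m A O z).coeff 0, ?_⟩⟩
    have h := rep_degree m O z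
    rw [hO, natDegree_X] at h
    show ev A O (C _) = z
    rw [← eq_C_of_natDegree_eq_zero (Nat.lt_one_iff.1 h), ev_rep]
  let E0 := RingEquiv.ofBijective _ hbij
  have h1 := congrArg (MilK.map E0.symm.toRingHom n) h0
  rw [map_zsmul, map_nsmul, map_map, neg_smul, natCast_zsmul] at h1
  rw [show E0.symm.toRingHom.comp ((ev A O).comp C) = RingHom.id k from
    RingHom.ext fun c => E0.symm_apply_apply c, map_id', neg_eq_iff_eq_neg] at h1
  exact ⟨-MilK.map E0.symm.toRingHom n q, by rw [hdeg, h1, smul_neg]⟩

theorem exists_smul_of_map_aux : ∀ (d : ℕ) {F E : Type u} [Field F] [Field E] [Algebra F E]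
    [FiniteDimensional F E], Module.finrank F E = d → ∀ {n : ℕ} (p : ℕ) (x : K F n) (w : K E n),
    MilK.map (algebraMap F E) n x = p • w → ∃ c : K F n, Module.finrank F E • x = p • c := by
  intro d
  induction d using Nat.strong_induction_on with
  | _ d ih =>
  intro F E _ _ _ _ hd n p x w hx
  by_cases h1 : ∀ a : E, a ∈ (⊥ : IntermediateField F E)
  · exact exists_smul_of_simple F (0 : E) (eq_top_iff.2 fun y _ => by
      have := h1 y
      rwa [IntermediateField.adjoin_simple_eq_bot_iff.2 (zero_mem _)]) p x w hx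
  push Not at h1
  obtain ⟨a, ha⟩ := h1
  let M := IntermediateField.adjoin F ({a} : Set E)
  have hlt : Module.finrank M E < d := by
    have h2 : 1 < Module.finrank F M := by
      rcases Nat.lt_or_ge 1 (Module.finrank F M) with h | h
      · exact h
      · have h3 : Module.finrank F M = 1 := le_antisymm h Module.finrank_pos
        exact absurd (IntermediateField.finrank_adjoin_simple_eq_one_iff.1 h3) ha
    rw [← hd, ← Module.finrank_mul_finrank F M E]
    exact lt_mul_of_one_lt_left Module.finrank_pos h2
  obtain ⟨c, hc⟩ := ih _ hlt (F := M) (E := E) rfl p (MilK.map (algebraMap F M) n x) w (by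
    rw [map_map, ← IsScalarTower.algebraMap_eq]; exact hx)
  rw [← map_nsmul] at hc
  obtain ⟨c', hc'⟩ := exists_smul_of_simple (k := F) (E := M) (IntermediateField.AdjoinSimple.gen F a)
    (IntermediateField.lift_injective M (by
      rw [IntermediateField.lift_adjoin_simple, IntermediateField.lift_top]; rfl))
    p (Module.finrank M E • x) c hc
  exact ⟨c', by rwa [smul_smul, Module.finrank_mul_finrank] at hc'⟩

/-- Descent of divisibility along a finite extension of degree prime to `p`. -/
theorem exists_smul_of_map {F E : Type u} [Field F] [Field E] [Algebra F E] [FiniteDimensional F E] {n : ℕ}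
    (p : ℕ) (hp : (Module.finrank F E).Coprime p) (x : K F n) (w : K E n)
    (hx : MilK.map (algebraMap F E) n x = p • w) : ∃ c : K F n, x = p • c := by
  obtain ⟨c, hc⟩ := exists_smul_of_map_aux _ rfl p x w hx
  obtain ⟨u, v, h⟩ := (Nat.isCoprime_iff_coprime.2 hp)
  refine ⟨u • c + v • x, ?_⟩
  conv_lhs => rw [← one_smul ℤ x, ← h, add_smul, mul_smul, mul_smul, natCast_zsmul, natCast_zsmul, hc]
  rw [smul_add, smul_comm u p c, smul_comm v p x]

end Groth.Agent.MilnorK
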