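import Groth.Agent.MilnorK.MilnorSeq
import Mathlib.RingTheory.Localization.AsSubring
import Mathlib.RingTheory.DedekindDomain.Dvr
import Mathlib.FieldTheory.RatFunc.Basic
import Mathlib.Algebra.Polynomial.Reverse
import Mathlib.FieldTheory.IntermediateField.Adjoin.Basic
import Mathlib.Algebra.Colimit.Module

/-! Kernel of the restriction to an algebraic extension. -/

namespace Groth.Agent.MilnorK

open MilK Function Polynomial IsLocalRing

set_option linter.unusedSectionVars false

universe u v

variable (k : Type u) [Field k]

/-- The local ring of the affine line at a closed point, inside the rational functions. -/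
noncomputable abbrev Loc (P : MaximalSpectrum k[X]) : Subalgebra k[X] (RatFunc k) :=
  Localization.subalgebra.ofField (RatFunc k) P.asIdeal.primeCompl
    P.asIdeal.primeCompl_le_nonZeroDivisors

instance (P : MaximalSpectrum k[X]) : IsLocalization.AtPrime (Loc k P) P.asIdeal :=
  inferInstanceAs (IsLocalization P.asIdeal.primeCompl _)

instance (P : MaximalSpectrum k[X]) : IsDiscreteValuationRing (Loc k P) :=
  IsLocalization.AtPrime.isDiscreteValuationRing_of_dedekind_domain k[X] (P := P.asIdeal) (by
    intro h
    obtain ⟨π, hπ, hP⟩ := exists_monic_gen P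
    rw [h, eq_comm, Ideal.span_singleton_eq_bot] at hP
    exact hπ.ne_zero hP) _

instance (P : MaximalSpectrum k[X]) :
    IsLocalization.AtPrime (Loc k P) ((Equiv.refl (MaximalSpectrum k[X])) P).asIdeal :=
  inferInstanceAs (IsLocalization P.asIdeal.primeCompl _)

variable {k}

theorem transcendental_aeval_inv {f : k[X]} (hf : f ≠ 0) :
    f.eval₂ (RatFunc.C : k →+* RatFunc k) (RatFunc.X : RatFunc k)⁻¹ ≠ 0 := by
  have : Invertible (RatFunc.X : RatFunc k)⁻¹ :=
    invertibleOfNonzero (inv_ne_zero RatFunc.X_ne_zero)
  intro h
  have h2 : f.reverse.eval₂ RatFunc.C (RatFunc.X : RatFunc k) = 0 := by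
    have key := (eval₂_reverse_eq_zero_iff (RatFunc.C : k →+* RatFunc k)
      (RatFunc.X : RatFunc k)⁻¹ f).2 h
    rwa [invOf_eq_inv, inv_inv] at key
  rw [← RatFunc.algebraMap_X, show (RatFunc.C : k →+* RatFunc k)
    = (algebraMap k[X] (RatFunc k)).comp C from RingHom.ext fun r => (RatFunc.algebraMap_C r).symm,
    ← hom_eval₂, eval₂_C_X] at h2
  exact toRat_ne_zero ((reverse_eq_zero).not.2 hf) h2

variable (k) in
/-- The substitution `t ↦ 1/t`. -/
noncomputable def invSubst : RatFunc k →+* RatFunc k :=
  RatFunc.liftRingHom (eval₂RingHom (RatFunc.C : k →+* RatFunc k) (RatFunc.X : RatFunc k)⁻¹)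
    fun f hf => by
      rw [Submonoid.mem_comap, mem_nonZeroDivisors_iff_ne_zero]
      exact transcendental_aeval_inv (nonZeroDivisors.ne_zero hf)

theorem invSubst_toRat (f : k[X]) :
    invSubst k (toRat f) = f.eval₂ RatFunc.C (RatFunc.X : RatFunc k)⁻¹ :=
  RatFunc.liftRingHom_algebraMap _ _ f

theorem invSubst_C (c : k) : invSubst k (algebraMap k (RatFunc k) c) = algebraMap k (RatFunc k) c := by
  rw [RatFunc.algebraMap_eq_C]
  conv_lhs => rw [← RatFunc.algebraMap_C]
  rw [invSubst_toRat, eval₂_C]

/-- Specialisation of constants is the evaluation map. -/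
theorem spec_map_const {n : ℕ} (P : MaximalSpectrum k[X]) (x : K k n) :
    spec (irreducible_pGen_map (A := fun P => Loc k P) (Equiv.refl _) P) n
      (MilK.map (algebraMap k (RatFunc k)) n x)
      = MilK.map ((ev (fun P => Loc k P) P).comp C) n x := by
  induction x using K_induction with
  | hs v =>
    rw [map_C_eq_psym, map_symbol]
    have hnd : ∀ j, ¬ pGen (Equiv.refl _) P ∣ C (v j : k) := fun j =>
      not_dvd_of_degree_lt _ (by simp) (by simpa using pGen_pos (Equiv.refl _) P)
    have : psym toRat (fun j => C (v j : k)) = usym (Loc k P) (RatFunc k)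
        fun j => (isUnit_map_of_not_dvd (A := fun P => Loc k P) _ (hnd j)).unit := by
      rw [psym, usym]; congr 1; funext j
      exact pUnit_eq_unitToFrac (A := fun P => Loc k P) _ (hnd j)
    rw [this, spec_usym]
    congr 1; funext j; apply Units.ext
    exact congrArg (residue (Loc k P))
      (isUnit_map_of_not_dvd (A := fun P => Loc k P) _ (hnd j)).unit_spec
  | h0 => simp
  | hadd p q hp hq => simp only [map_add, hp, hq]
  | hneg p hp => simp only [map_neg, hp]

theorem tame_cons_const {n : ℕ} (P : MaximalSpectrum k[X]) (a : (RatFunc k)ˣ) (x : K k n) :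
    tame (irreducible_pGen_map (A := fun P => Loc k P) (Equiv.refl _) P) n
        (cons n (.ofMul a) (MilK.map (algebraMap k (RatFunc k)) n x))
      = ord (irreducible_pGen_map (A := fun P => Loc k P) (Equiv.refl _) P) (.ofMul a)
        • MilK.map ((ev (fun P => Loc k P) P).comp C) n x := by
  rw [← spec_map_const]
  apply tame_cons_units
  induction x using K_induction with
  | hs v =>
    rw [map_C_eq_psym]
    have hnd : ∀ j, ¬ pGen (Equiv.refl _) P ∣ C (v j : k) := fun j =>
      not_dvd_of_degree_lt _ (by simp) (by simpa using pGen_pos (Equiv.refl _) P)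
    have : psym toRat (fun j => C (v j : k)) = usym (Loc k P) (RatFunc k)
        fun j => (isUnit_map_of_not_dvd (A := fun P => Loc k P) _ (hnd j)).unit := by
      rw [psym, usym]; congr 1; funext j
      exact pUnit_eq_unitToFrac (A := fun P => Loc k P) _ (hnd j)
    rw [this]; exact usym_mem _
  | h0 => simp
  | hadd p q hp hq => rw [map_add]; exact add_mem hp hq
  | hneg p hp => rw [map_neg]; exact neg_mem hp

/-- The case of a simple extension. -/
theorem finrank_smul_eq_zero_of_simple {E : Type v} [Field E] [Algebra k E] [FiniteDimensional k E]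
    (a : E) (hgen : IntermediateField.adjoin k ({a} : Set E) = ⊤) {n : ℕ} (x : K k n)
    (hx : MilK.map (algebraMap k E) n x = 0) : Module.finrank k E • x = 0 := by
  classical
  have hint : IsIntegral k a := IsIntegral.of_finite k a
  set π := minpoly k a
  have hπm : π.Monic := minpoly.monic hint
  have hπi : Irreducible π := minpoly.irreducible hint
  have hdeg : Module.finrank k E = π.natDegree := by
    rw [← IntermediateField.adjoin.finrank hint, hgen, IntermediateField.finrank_top']
  obtain ⟨P, hP⟩ := exists_pGen_eq (Equiv.refl (MaximalSpectrum k[X])) hπm hπi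
  set A : MaximalSpectrum k[X] → Type u := fun P => Loc k P
  set m := Equiv.refl (MaximalSpectrum k[X])
  -- `E` maps to the residue field at `P`
  let g : AdjoinRoot π →+* ResidueField (A P) :=
    AdjoinRoot.lift ((ev A P).comp C) (ev A P X) (by
      rw [← hom_eval₂, eval₂_C_X]
      exact (ev_eq_zero_iff (A := A) m P π).2 (by rw [hP]))
  let e : AdjoinRoot π ≃ₐ[k] E :=
    (IntermediateField.adjoinRootEquivAdjoin k hint).trans
      ((IntermediateField.equivOfEq hgen).trans IntermediateField.topEquiv)
  have hr : MilK.map ((ev A P).comp C) n x = 0 := by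
    have : (ev A P).comp C = (g.comp e.symm.toRingEquiv.toRingHom).comp (algebraMap k E) := by
      refine RingHom.ext fun c => ?_
      show _ = g (e.symm (algebraMap k E c))
      rw [AlgEquiv.commutes, AdjoinRoot.algebraMap_eq, AdjoinRoot.lift_of]
    rw [this, ← map_map, hx, map_zero]
  set y := cons n (.ofMul (pUnit toRat π)) (MilK.map (algebraMap k (RatFunc k)) n x)
  have hy : ∀ Q, dAt (A := A) m Q n y = 0 := by
    intro Q
    rw [dAt, tame_cons_const]
    rcases eq_or_ne Q P with rfl | hne
    · rw [hr, smul_zero]
    · have hnd : ¬ pGen m Q ∣ π := by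
        intro hd
        rw [← hP] at hd
        exact hne (pGen_injective m (eq_of_monic_of_associated (pGen_monic m Q) (pGen_monic m P)
          ((pGen_irreducible m Q).associated_of_dvd (pGen_irreducible m P) hd)))
      rw [pUnit_eq_unitToFrac (A := A) m hnd, ord_unit, zero_smul]
  obtain ⟨c, hc⟩ := (mem_range_iff (A := A) m y).2 hy
  obtain ⟨O, hO⟩ := exists_pGen_eq m monic_X irreducible_X
  have hcσ := congrArg (MilK.map (invSubst k) (n + 1)) hc
  have hσk : (invSubst k).comp (algebraMap k (RatFunc k)) = algebraMap k (RatFunc k) :=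
    RingHom.ext invSubst_C
  rw [map_cons, map_map, map_map, hσk] at hcσ
  have h0 : dAt (A := A) m O n (MilK.map (algebraMap k (RatFunc k)) (n + 1) c) = 0 :=
    dAt_map_eq_zero m O c
  rw [hcσ, dAt, tame_cons_const] at h0
  -- the order of `π(1/t)` at `0`
  have hnd : ¬ pGen m O ∣ π.reverse := by
    rw [hO, X_dvd_iff, coeff_zero_reverse, hπm.leadingCoeff]
    exact one_ne_zero
  have hP' : Units.map (invSubst k : RatFunc k →* RatFunc k) (pUnit toRat π)
      = unitFrac (A O) (RatFunc k) (algebraMap k[X] (A O) (pGen m O))
          (irreducible_pGen_map (A := A) m O).ne_zero ^ (-(π.natDegree : ℤ))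
        * unitToFrac (A O) (RatFunc k) (isUnit_map_of_not_dvd (A := A) m hnd).unit := by
    rw [← pUnit_pGen (A := A) m O, ← pUnit_eq_unitToFrac (A := A) m hnd]
    apply Units.ext
    rw [Units.coe_map, MonoidHom.coe_coe, pUnit_val _ (toRat_ne_zero hπm.ne_zero), invSubst_toRat,
      Units.val_mul, Units.val_zpow_eq_zpow_val,
      pUnit_val _ (toRat_ne_zero (pGen_monic m O).ne_zero),
      pUnit_val _ (toRat_ne_zero (reverse_eq_zero.not.2 hπm.ne_zero)), hO, zpow_neg, zpow_natCast]
    have : Invertible (RatFunc.X : RatFunc k)⁻¹ := invertibleOfNonzero (inv_ne_zero RatFunc.X_ne_zero)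
    have key := eval₂_reverse_mul_pow (RatFunc.C : k →+* RatFunc k) (RatFunc.X : RatFunc k)⁻¹ π
    rw [invOf_eq_inv, inv_inv] at key
    rw [← key, mul_comm, inv_pow]
    congr 1
    rw [← RatFunc.algebraMap_X, show (RatFunc.C : k →+* RatFunc k)
      = (algebraMap k[X] (RatFunc k)).comp C from RingHom.ext fun r => (RatFunc.algebraMap_C r).symm,
      ← hom_eval₂, eval₂_C_X]
  rw [hP', ord_apply (irreducible_pGen_map (A := A) m O), neg_smul, neg_eq_zero] at h0
  have hbij : Bijective ((ev A O).comp (C : k →+* k[X])) := by
    refine ⟨((ev A O).comp (C : k →+* k[X])).injective, fun z => ⟨(rep m A O z).coeff 0, ?_⟩⟩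
    have h := rep_degree m O z
    rw [hO, natDegree_X] at h
    show ev A O (C _) = z
    rw [← eq_C_of_natDegree_eq_zero (Nat.lt_one_iff.1 h), ev_rep]
  let E0 := RingEquiv.ofBijective _ hbij
  have := congrArg (MilK.map E0.symm.toRingHom n) h0
  rw [map_zsmul, map_zero, map_map, natCast_zsmul] at this
  rw [show E0.symm.toRingHom.comp ((ev A O).comp C) = RingHom.id k from
    RingHom.ext fun c => E0.symm_apply_apply c, map_id'] at this
  rw [hdeg]; exact this

/-- The case of a finite extension, both fields in one universe. -/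
theorem finrank_smul_eq_zero_aux : ∀ (d : ℕ) {F E : Type v} [Field F] [Field E] [Algebra F E]
    [FiniteDimensional F E], Module.finrank F E = d → ∀ {n : ℕ} (x : K F n),
    MilK.map (algebraMap F E) n x = 0 → Module.finrank F E • x = 0 := by
  intro d
  induction d using Nat.strong_induction_on with
  | _ d ih =>
  intro F E _ _ _ _ hd n x hx
  by_cases h1 : ∀ a : E, a ∈ (⊥ : IntermediateField F E)
  · exact finrank_smul_eq_zero_of_simple (0 : E) (eq_top_iff.2 fun y _ => by
      have := h1 y
      rwa [IntermediateField.adjoin_simple_eq_bot_iff.2 (zero_mem _)]) x hx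
  push Not at h1
  obtain ⟨a, ha⟩ := h1
  let M := IntermediateField.adjoin F ({a} : Set E)
  have hlt : Module.finrank M E < d := by
    have h2 : 1 < Module.finrank F M := by
      rcases Nat.lt_or_ge 1 (Module.finrank F M) with h | h
      · exact h
      · have h3 : Module.finrank F M = 1 := le_antisymm h Module.finrank_pos
        exact absurd (IntermediateField.finrank_adjoin_simple_eq_one_iff.1 h3) ha
    rw [← hd, ← Module.finrank_mul_finrank F M E]
    exact lt_mul_of_one_lt_left Module.finrank_pos h2
  have hM := ih _ hlt (F := M) (E := E) rfl (MilK.map (algebraMap F M) n x) (by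
    rw [map_map, ← IsScalarTower.algebraMap_eq]; exact hx)
  rw [← map_nsmul] at hM
  have := finrank_smul_eq_zero_of_simple (k := F) (E := M) (IntermediateField.AdjoinSimple.gen F a)
    (IntermediateField.lift_injective M (by
      rw [IntermediateField.lift_adjoin_simple, IntermediateField.lift_top]; rfl))
    (Module.finrank M E • x) hM
  rwa [smul_smul, Module.finrank_mul_finrank] at this

/-- The case of a finite extension. -/
theorem finrank_smul_eq_zero {E : Type v} [Field E] [Algebra k E] [FiniteDimensional k E] {n : ℕ}
    (x : K k n) (hx : MilK.map (algebraMap k E) n x = 0) : Module.finrank k E • x = 0 := by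
  let B := (⊥ : IntermediateField k E)
  let e : B ≃ₐ[k] k := IntermediateField.botEquiv k E
  have h : MilK.map (algebraMap B E) n (MilK.map (algebraMap k B) n x) = 0 := by
    rw [map_map, ← IsScalarTower.algebraMap_eq]; exact hx
  have := congrArg (MilK.map e.toRingEquiv.toRingHom n)
    (finrank_smul_eq_zero_aux _ rfl (MilK.map (algebraMap k B) n x) h)
  rw [map_zero, map_nsmul, map_map] at this
  rw [show e.toRingEquiv.toRingHom.comp (algebraMap k B) = RingHom.id k from
    RingHom.ext fun c => e.commutes c, map_id'] at this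
  have h2 : Module.finrank k E = Module.finrank B E := by
    rw [← Module.finrank_mul_finrank k B E, IntermediateField.finrank_bot, one_mul]
  rw [h2]; exact this

/-! ### Algebraic extensions -/

section Algebraic

variable (E : Type v) [Field E] [Algebra k E]

/-- The finite subextensions. -/
abbrev FinSub (k : Type u) [Field k] (E : Type v) [Field E] [Algebra k E] :=
  {M : IntermediateField k E // FiniteDimensional k M}

instance : IsDirectedOrder (FinSub k E) :=
  ⟨fun M N => by
    have := M.2; have := N.2
    exact ⟨⟨M.1 ⊔ N.1, IntermediateField.finiteDimensional_sup _ _⟩, Subtype.mk_le_mk.2 le_sup_left,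
      Subtype.mk_le_mk.2 le_sup_right⟩⟩

instance : Nonempty (FinSub k E) := ⟨⟨⊥, inferInstance⟩⟩

/-- The transition maps. -/
noncomputable def incl (n : ℕ) (M N : FinSub k E) (h : M ≤ N) : K M.1 n →+ K N.1 n :=
  MilK.map (IntermediateField.inclusion (show M.1 ≤ N.1 from h)).toRingHom n

instance (n : ℕ) : DirectedSystem (fun M : FinSub k E => K M.1 n) fun i j h => incl E n i j h where
  map_self i x := (congrArg (fun φ => MilK.map φ n x) (RingHom.ext fun _ => rfl)).trans (map_id' x)
  map_map k' j i hij hjk x := (map_map _ _ x).trans (congrArg (fun φ => MilK.map φ n x)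
    (RingHom.ext fun _ => rfl))

/-- A tuple of units seen in a subfield. -/
noncomputable def restrictUnits {n : ℕ} (M : IntermediateField k E) (v : Fin n → Eˣ)
    (h : ∀ i, (v i : E) ∈ M) : Fin n → Mˣ :=
  fun i => Units.mk0 ⟨v i, h i⟩ fun e => (v i).ne_zero (congrArg Subtype.val e)

theorem exists_eq_zero_of_map_eq_zero [Algebra.IsAlgebraic k E] {n : ℕ} (x : K k n)
    (hx : MilK.map (algebraMap k E) n x = 0) :
    ∃ M : FinSub k E, MilK.map (algebraMap k M.1) n x = 0 := by
  classical
  let G := fun M : FinSub k E => K M.1 n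
  let D := AddCommGroup.DirectLimit G (incl E n)
  let of' : ∀ M : FinSub k E, K M.1 n →+ D := fun M => AddCommGroup.DirectLimit.of G (incl E n) M
  have hfin : ∀ v : Fin n → Eˣ,
      FiniteDimensional k (IntermediateField.adjoin k (Set.range fun i => (v i : E))) := fun v =>
    IntermediateField.finiteDimensional_adjoin fun y _ => Algebra.IsIntegral.isIntegral y
  let Mv : (Fin n → Eˣ) → FinSub k E := fun v => ⟨_, hfin v⟩
  have hMv : ∀ v i, (v i : E) ∈ (Mv v).1 := fun v i =>
    IntermediateField.subset_adjoin k _ ⟨i, rfl⟩
  let g : (Fin n → Eˣ) → D := fun v => of' (Mv v) (symbol (restrictUnits E _ v (hMv v)))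
  have hg : ∀ v (M : FinSub k E) (hv : ∀ i, (v i : E) ∈ M.1),
      of' M (symbol (restrictUnits E _ v hv)) = g v := by
    intro v M hv
    have hle : Mv v ≤ M := by
      show IntermediateField.adjoin k _ ≤ M.1
      rw [IntermediateField.adjoin_le_iff]
      rintro _ ⟨i, rfl⟩; exact hv i
    simp only [g, of']
    rw [← AddCommGroup.DirectLimit.of_f (G := G) (f := incl E n) hle
      (symbol (restrictUnits E _ v (hMv v)))]
    congr 1
  have hmul : ∀ (v : Fin n → Additive Eˣ) (i : Fin n) (a b : Additive Eˣ),
      g (fun j => (update v i (a + b) j).toMul) =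
        g (fun j => (update v i a j).toMul) + g (fun j => (update v i b j).toMul) := by
    intro v i a b
    set va : Fin n → Eˣ := fun j => (update v i a j).toMul
    set vb : Fin n → Eˣ := fun j => (update v i b j).toMul
    set vab : Fin n → Eˣ := fun j => (update v i (a + b) j).toMul
    obtain ⟨M, h1, h2⟩ := exists_ge_ge (Mv va) (Mv vb)
    have ha : ∀ j, (va j : E) ∈ M.1 := fun j => h1 (hMv va j)
    have hb : ∀ j, (vb j : E) ∈ M.1 := fun j => h2 (hMv vb j)
    have hab : ∀ j, (vab j : E) ∈ M.1 := by
      intro j
      rcases eq_or_ne j i with rfl | hj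
      · have := mul_mem (ha j) (hb j)
        simpa [va, vb, vab] using this
      · have := ha j
        simpa [va, vab, update_of_ne hj] using this
    rw [← hg va M ha, ← hg vb M hb, ← hg vab M hab, ← map_add]
    congr 1
    set w := restrictUnits E M.1 va ha
    rw [show restrictUnits E M.1 vab hab
        = update w i (w i * restrictUnits E M.1 vb hb i) from funext fun j => by
      rcases eq_or_ne j i with rfl | hj
      · rw [update_self]; apply Units.ext; apply Subtype.ext
        simp [w, restrictUnits, va, vb, vab]
      · rw [update_of_ne hj]; apply Units.ext; apply Subtype.ext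
        simp [w, restrictUnits, va, vab, update_of_ne hj],
      symbol_update_mul, update_eq_self]
    congr 2
    funext j
    rcases eq_or_ne j i with rfl | hj
    · rw [update_self]
    · rw [update_of_ne hj]; apply Units.ext; apply Subtype.ext
      simp [w, restrictUnits, va, vb, update_of_ne hj]
  let Ψ : K E n →+ D := MilK.lift
    (MultilinearMap.mk' (fun v => g fun j => (v j).toMul) hmul
      (fun v i c a => AddMonoidHom.map_zsmul
        (AddMonoidHom.mk' (fun a => g fun j => (update v i a j).toMul) (hmul v i)) c a))
    (fun v hv => by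
      obtain ⟨i, j, hij, h⟩ := hv
      show of' _ (symbol (restrictUnits E _ v (hMv v))) = 0
      rw [symbol_stein _ hij, map_zero]
      exact Subtype.ext h)
  have key : ∀ x : K k n,
      Ψ (MilK.map (algebraMap k E) n x) = of' ⟨⊥, inferInstance⟩ (MilK.map (algebraMap k _) n x) := by
    intro x
    induction x using K_induction with
    | hs v =>
      rw [map_symbol, map_symbol]
      simp only [Ψ, lift_symbol]
      show g _ = _
      have hb : ∀ i, (Units.map (algebraMap k E : k →* E) (v i) : E) ∈ (⊥ : IntermediateField k E) :=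
        fun i => IntermediateField.algebraMap_mem _ _
      refine ((hg _ ⟨⊥, inferInstance⟩ hb).symm).trans (congrArg _ (congrArg symbol ?_))
      funext i; apply Units.ext; apply Subtype.ext; rfl
    | h0 => simp
    | hadd p q hp hq => simp only [map_add, hp, hq]
    | hneg p hp => simp only [map_neg, hp]
  have h0 := key x
  rw [hx, map_zero] at h0
  obtain ⟨M, hM, hM0⟩ := AddCommGroup.DirectLimit.of.zero_exact (G := G) (f := incl E n) _ _ h0.symm
  refine ⟨M, ?_⟩
  rw [incl, map_map] at hM0
  exact hM0

end Algebraic

end Groth.Agent.MilnorK
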