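import Groth.Prelude.Def_GSzMilK
import Mathlib.Algebra.Group.Subgroup.Basic
import Mathlib.GroupTheory.Perm.Sign
import Mathlib.LinearAlgebra.Multilinear.Curry
import Mathlib.Tactic.Abel
import Mathlib.Tactic.FieldSimp
import Mathlib.Tactic.LinearCombination

/-! Symbol calculus in Milnor K-groups. -/

namespace Groth.Agent.MilnorK

open MilK Function
universe u v
variable {F : Type u} [Field F]

/-- The symbol as a multilinear map. -/
noncomputable def symb (F : Type u) [Field F] (n : ℕ) :
    MultilinearMap ℤ (fun _ : Fin n => Additive Fˣ) (K F n) :=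
  (mk F n).toIntLinearMap.compMultilinearMap (PiTensorProduct.tprod ℤ)

theorem symb_ofMul {n : ℕ} (x : Fin n → Fˣ) :
    symb F n (fun i => Additive.ofMul (x i)) = symbol x := rfl

theorem symb_apply {n : ℕ} (x : Fin n → Additive Fˣ) :
    symb F n x = symbol fun i => (x i).toMul := rfl

theorem symbol_update_mul {n : ℕ} (x : Fin n → Fˣ) (i : Fin n) (a b : Fˣ) :
    symbol (update x i (a * b)) = symbol (update x i a) + symbol (update x i b) := by
  have h := (symb F n).map_update_add (fun j => Additive.ofMul (x j)) i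
    (Additive.ofMul a) (Additive.ofMul b)
  have e : ∀ c : Fˣ, (symb F n) (update (fun j => Additive.ofMul (x j)) i (Additive.ofMul c))
      = symbol (update x i c) := by
    intro c
    rw [symb_apply]
    congr 1

  rw [← ofMul_mul] at h
  rwa [e, e, e] at h

theorem symbol_eq_zero_of_one {n : ℕ} (x : Fin n → Fˣ) (i : Fin n) (h : x i = 1) :
    (symbol x : K F n) = 0 := by
  have := symbol_update_mul x i 1 1
  rw [mul_one, update_eq_self_iff.2 h.symm] at this
  simpa using this

theorem symbol_update_inv {n : ℕ} (x : Fin n → Fˣ) (i : Fin n) (a : Fˣ) :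
    symbol (update x i a⁻¹) = -(symbol (update x i a) : K F n) := by
  rw [eq_neg_iff_add_eq_zero, ← symbol_update_mul, inv_mul_cancel]
  exact symbol_eq_zero_of_one _ i (update_self ..)

theorem symbol_update_div {n : ℕ} (x : Fin n → Fˣ) (i : Fin n) (a b : Fˣ) :
    symbol (update x i (a / b)) = (symbol (update x i a) : K F n) - symbol (update x i b) := by
  rw [div_eq_mul_inv, symbol_update_mul, symbol_update_inv, sub_eq_add_neg]

theorem symbol_update_zpow {n : ℕ} (x : Fin n → Fˣ) (i : Fin n) (a : Fˣ) (e : ℤ) :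
    symbol (update x i (a ^ e)) = e • (symbol (update x i a) : K F n) := by
  induction e using Int.induction_on with
  | zero => simp [symbol_eq_zero_of_one _ i]
  | succ k ih => rw [zpow_add, zpow_one, symbol_update_mul, ih, add_smul, one_smul]
  | pred k ih =>
    rw [zpow_sub, zpow_one, ← div_eq_mul_inv, symbol_update_div, ih, sub_smul, one_smul]

/-- Steinberg at two positions in increasing order. -/
theorem symbol_stein {n : ℕ} (x : Fin n → Fˣ) {i j : Fin n} (hij : i < j)
    (h : (x i : F) + x j = 1) : (symbol x : K F n) = 0 :=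
  symbol_eq_zero_of_isSteinberg x ⟨i, j, hij, h⟩

theorem symbol_self_neg_lt {n : ℕ} (x : Fin n → Fˣ) {i j : Fin n} (hij : i < j)
    (h : x j = -x i) : (symbol x : K F n) = 0 := by
  set a := x i with ha
  by_cases h1 : a = 1
  · exact symbol_eq_zero_of_one x i h1
  have ha1 : (1 : F) - a ≠ 0 := by
    rw [sub_ne_zero]; exact fun e => h1 (Units.ext e.symm)
  have ha2 : (1 : F) - (a : F)⁻¹ ≠ 0 := by
    rw [sub_ne_zero]; intro e
    exact h1 (Units.ext (inv_eq_one.1 e.symm))
  have e : x j = Units.mk0 _ ha1 / Units.mk0 _ ha2 := by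
    rw [h]; apply Units.ext
    simp only [Units.val_neg, Units.val_div_eq_div_val, Units.val_mk0]
    rw [eq_div_iff ha2]
    field_simp
    ring
  rw [← update_eq_self j x, e, symbol_update_div]
  rw [symbol_stein (update x j (Units.mk0 _ ha1)) hij (by
    simp [update_of_ne hij.ne, ← ha])]
  have hx : (symbol (update (update x j (Units.mk0 _ ha2)) i a⁻¹) : K F n) = 0 :=
    symbol_stein _ hij (by simp [update_of_ne hij.ne'])
  rw [symbol_update_inv, neg_eq_zero, update_eq_self_iff.2 (by simp [update_of_ne hij.ne, ← ha])]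
    at hx
  rw [hx, sub_zero]

theorem symbol_swap {n : ℕ} (x : Fin n → Fˣ) (i j : Fin n) (hij : i ≠ j) :
    (symbol (x ∘ Equiv.swap i j) : K F n) = -symbol x := by
  wlog hlt : i < j generalizing i j
  · rw [Equiv.swap_comm]
    exact this j i hij.symm (lt_of_le_of_ne (not_lt.1 hlt) hij.symm)
  set a := x i
  set b := x j
  let Φ : Fˣ → Fˣ → K F n := fun p q => symbol (update (update x i p) j q)
  have hl : ∀ p p' q, Φ (p * p') q = Φ p q + Φ p' q := fun p p' q => by
    simp only [Φ, update_comm hij, symbol_update_mul]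
  have hr : ∀ p q q', Φ p (q * q') = Φ p q + Φ p q' := fun p q q' => symbol_update_mul _ _ _ _
  have h0 : ∀ p, Φ p (-p) = 0 := fun p => symbol_self_neg_lt _ hlt (by simp [update_of_ne hij])
  have h := h0 (a * b)
  have e1 : -(a * b) = (-a) * b := (neg_mul a b).symm
  have e2 : -(a * b) = a * (-b) := (mul_neg a b).symm
  rw [hl] at h
  nth_rw 1 [e1] at h
  rw [e2, hr, hr, h0, h0] at h
  have hab : Φ a b = symbol x := by simp [Φ, a, b]
  have hba : Φ b a = symbol (x ∘ Equiv.swap i j) := by
    simp only [Φ]; congr 1; funext k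
    rcases eq_or_ne k j with rfl | hk
    · simp [a]
    rcases eq_or_ne k i with rfl | hk'
    · simp [update_of_ne hij, b]
    simp [update_of_ne hk, update_of_ne hk', Equiv.swap_apply_of_ne_of_ne hk' hk]
  rw [← hab, ← hba, eq_neg_iff_add_eq_zero, ← h]
  abel

theorem symbol_perm {n : ℕ} (x : Fin n → Fˣ) (σ : Equiv.Perm (Fin n)) :
    (symbol (x ∘ σ) : K F n) = ((Equiv.Perm.sign σ : ℤˣ) : ℤ) • symbol x := by
  induction σ using Equiv.Perm.swap_induction_on generalizing x with
  | one => simp
  | swap_mul f i j hij ih =>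
    rw [Equiv.Perm.coe_mul, ← Function.comp_assoc, ih, symbol_swap _ _ _ hij, map_mul,
      Equiv.Perm.sign_swap hij]
    simp

theorem symbol_stein_ne {n : ℕ} (x : Fin n → Fˣ) {i j : Fin n} (hij : i ≠ j)
    (h : (x i : F) + x j = 1) : (symbol x : K F n) = 0 :=
  (lt_or_gt_of_ne hij).elim (fun hlt => symbol_stein x hlt h)
    (fun hgt => symbol_stein x hgt (by rw [add_comm]; exact h))

theorem symbol_self_neg {n : ℕ} (x : Fin n → Fˣ) {i j : Fin n} (hij : i ≠ j)
    (h : x j = -x i) : (symbol x : K F n) = 0 :=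
  (lt_or_gt_of_ne hij).elim (fun hlt => symbol_self_neg_lt x hlt h)
    (fun hgt => symbol_self_neg_lt x hgt (by rw [h, neg_neg]))

theorem symbol_self {n : ℕ} (x : Fin n → Fˣ) {i j : Fin n} (hij : i ≠ j)
    (h : x j = x i) : (symbol x : K F n) = symbol (update x j (-1)) := by
  have : (symbol x : K F n) = symbol (update x j (-x i)) + symbol (update x j (-1)) := by
    rw [← symbol_update_mul, neg_mul_neg, mul_one, ← h, update_eq_self]
  rw [this, symbol_self_neg _ hij (by simp [update_of_ne hij]), zero_add]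

/-! ### Maps out of K-groups -/

theorem addHom_ext {M : Type*} [AddCommGroup M] {n : ℕ} {f g : K F n →+ M}
    (h : ∀ x : Fin n → Fˣ, f (symbol x) = g (symbol x)) : f = g := by
  ext z
  obtain ⟨t, rfl⟩ := mk_surjective F n z
  induction t using PiTensorProduct.induction_on with
  | smul_tprod r x =>
    rw [map_zsmul (mk F n), map_zsmul, map_zsmul, mk_tprod, h]
  | add a b ha hb => rw [map_add, map_add, map_add, ha, hb]

theorem closure_symbol (n : ℕ) :
    AddSubgroup.closure (Set.range (symbol : (Fin n → Fˣ) → K F n)) = ⊤ := by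
  rw [eq_top_iff]
  intro z hz
  clear hz
  obtain ⟨t, rfl⟩ := mk_surjective F n z
  induction t using PiTensorProduct.induction_on with
  | smul_tprod r x =>
    rw [map_zsmul, mk_tprod]
    exact zsmul_mem (AddSubgroup.subset_closure (Set.mem_range_self _)) r
  | add a b ha hb => rw [map_add]; exact add_mem ha hb

@[elab_as_elim]
theorem K_induction {n : ℕ} {P : K F n → Prop} (z : K F n) (hs : ∀ x, P (symbol x))
    (h0 : P 0) (hadd : ∀ a b, P a → P b → P (a + b)) (hneg : ∀ a, P a → P (-a)) : P z := by
  have hz : z ∈ AddSubgroup.closure (Set.range (symbol : (Fin n → Fˣ) → K F n)) := by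
    rw [closure_symbol]; trivial
  induction hz using AddSubgroup.closure_induction with
  | mem x hx => obtain ⟨y, rfl⟩ := hx; exact hs y
  | zero => exact h0
  | add a b _ _ ha hb => exact hadd a b ha hb
  | neg a _ ha => exact hneg a ha

/-- Prepending a unit. -/
noncomputable def cons (n : ℕ) : Additive Fˣ →+ K F n →+ K F (n + 1) :=
  AddMonoidHom.mk' (fun a => MilK.lift ((symb F (n + 1)).curryLeft a) (fun x hx => by
      obtain ⟨i, j, hij, h⟩ := hx
      rw [MultilinearMap.curryLeft_apply, symb_apply]
      refine symbol_stein _ (Fin.succ_lt_succ_iff.2 hij) ?_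
      simpa using h))
    (fun a b => addHom_ext fun x => by simp)

theorem cons_symbol {n : ℕ} (a : Fˣ) (x : Fin n → Fˣ) :
    cons n (Additive.ofMul a) (symbol x) = (symbol (Fin.cons a x) : K F (n + 1)) := by
  simp only [cons, AddMonoidHom.mk'_apply, lift_symbol, MultilinearMap.curryLeft_apply, symb_apply]
  congr 1

theorem symbol_eq_cons {n : ℕ} (x : Fin (n + 1) → Fˣ) :
    (symbol x : K F (n + 1)) = cons n (Additive.ofMul (x 0)) (symbol (Fin.tail x)) := by
  rw [cons_symbol, Fin.cons_self_tail]

theorem cons_cons_anti {n : ℕ} (a b : Additive Fˣ) (z : K F n) :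
    cons (n + 1) a (cons n b z) = -cons (n + 1) b (cons n a z) := by
  revert z
  have : (cons (n + 1) a).comp (cons n b) = -((cons (n + 1) b).comp (cons n a)) := by
    refine addHom_ext fun x => ?_
    obtain ⟨a, rfl⟩ : ∃ c, Additive.ofMul c = a := ⟨a.toMul, rfl⟩
    obtain ⟨b, rfl⟩ : ∃ c, Additive.ofMul c = b := ⟨b.toMul, rfl⟩
    simp only [AddMonoidHom.comp_apply, AddMonoidHom.neg_apply, cons_symbol]
    rw [← symbol_swap (Fin.cons b (Fin.cons a x) : Fin (n + 2) → Fˣ) 0 1 Fin.zero_ne_one]
    congr 1
    funext k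
    cases k using Fin.cases with
    | zero => simp [Equiv.swap_apply_left]
    | succ k =>
      cases k using Fin.cases with
      | zero => simp [Equiv.swap_apply_right]
      | succ k =>
        rw [comp_apply, Equiv.swap_apply_of_ne_of_ne (Fin.succ_ne_zero _)]
        · simp
        · exact fun e => Fin.succ_ne_zero k (Fin.succ_injective _ e)
  intro z; exact DFunLike.congr_fun this z

theorem cons_cons_stein {n : ℕ} (a b : Fˣ) (h : (a : F) + b = 1) (z : K F n) :
    cons (n + 1) (Additive.ofMul a) (cons n (Additive.ofMul b) z) = 0 := by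
  revert z
  have : (cons (n + 1) (Additive.ofMul a)).comp (cons n (Additive.ofMul b)) = 0 := by
    refine addHom_ext fun x => ?_
    simp only [AddMonoidHom.comp_apply, cons_symbol, AddMonoidHom.zero_apply]
    exact symbol_stein _ (show (0 : Fin (n + 2)) < 1 by simp) (by
      rw [show (1 : Fin (n + 2)) = Fin.succ 0 from rfl, Fin.cons_zero, Fin.cons_succ, Fin.cons_zero]
      exact h)
  intro z; exact DFunLike.congr_fun this z

theorem cons_cons_neg {n : ℕ} (a : Fˣ) (z : K F n) :
    cons (n + 1) (Additive.ofMul a) (cons n (Additive.ofMul (-a)) z) = 0 := by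
  revert z
  have : (cons (n + 1) (Additive.ofMul a)).comp (cons n (Additive.ofMul (-a))) = 0 := by
    refine addHom_ext fun x => ?_
    simp only [AddMonoidHom.comp_apply, cons_symbol, AddMonoidHom.zero_apply]
    exact symbol_self_neg _ (Fin.zero_ne_one (n := n)) (by
      rw [show (1 : Fin (n + 2)) = Fin.succ 0 from rfl, Fin.cons_zero, Fin.cons_succ, Fin.cons_zero])
  intro z; exact DFunLike.congr_fun this z

theorem cons_cons_self {n : ℕ} (a : Fˣ) (z : K F n) :
    cons (n + 1) (Additive.ofMul a) (cons n (Additive.ofMul a) z)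
      = cons (n + 1) (Additive.ofMul a) (cons n (Additive.ofMul (-1)) z) := by
  have : Additive.ofMul a = Additive.ofMul (-a) + Additive.ofMul (-1 : Fˣ) := by
    rw [← ofMul_mul]; congr 1; simp
  conv_lhs => arg 2; rw [this, map_add, AddMonoidHom.add_apply]
  rw [map_add, cons_cons_neg, zero_add]

theorem two_smul_neg_one : (2 : ℤ) • Additive.ofMul (-1 : Fˣ) = 0 := by
  rw [← ofMul_zpow]; simp

theorem map_cons {E : Type v} [Field E] (φ : F →+* E) {n : ℕ} (a : Fˣ) (z : K F n) :
    MilK.map φ (n + 1) (cons n (Additive.ofMul a) z)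
      = cons n (Additive.ofMul (Units.map (φ : F →* E) a)) (MilK.map φ n z) := by
  revert z
  have : (MilK.map φ (n + 1)).comp (cons n (Additive.ofMul a))
      = (cons n (Additive.ofMul (Units.map (φ : F →* E) a))).comp (MilK.map φ n) := by
    refine addHom_ext fun x => ?_
    simp only [AddMonoidHom.comp_apply, cons_symbol, map_symbol]
    congr 1
    funext i
    cases i using Fin.cases <;> simp
  intro z; exact DFunLike.congr_fun this z

theorem map_map {E : Type v} {M : Type*} [Field E] [Field M] (φ : F →+* E) (ψ : E →+* M) {n : ℕ}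
    (z : K F n) : MilK.map ψ n (MilK.map φ n z) = MilK.map (ψ.comp φ) n z := by
  revert z
  have : (MilK.map ψ n).comp (MilK.map φ n) = MilK.map (ψ.comp φ) n := by
    refine addHom_ext fun x => ?_
    simp only [AddMonoidHom.comp_apply, map_symbol]
    congr 1
  intro z; exact DFunLike.congr_fun this z

theorem map_id' {n : ℕ} (z : K F n) : MilK.map (RingHom.id F) n z = z := by
  revert z
  have : MilK.map (RingHom.id F) n = AddMonoidHom.id _ := by
    refine addHom_ext fun x => ?_
    simp only [map_symbol, AddMonoidHom.id_apply]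
    congr 1
  intro z; exact DFunLike.congr_fun this z

theorem cast_cast {n m l : ℕ} (h : n = m) (h' : m = l) (z : K F n) :
    MilK.cast F h' (MilK.cast F h z) = MilK.cast F (h.trans h') z := by
  subst h; subst h'; simp

/-- `cast (mul 1 n {a} z) = cons a z`. -/
theorem cast_mul_one {n : ℕ} (a : Fˣ) (z : K F n) :
    MilK.cast F (Nat.add_comm 1 n) (MilK.mul F 1 n (symbol ![a]) z)
      = cons n (Additive.ofMul a) z := by
  revert z
  have : (MilK.cast F (Nat.add_comm 1 n)).toAddMonoidHom.comp (MilK.mul F 1 n (symbol ![a]))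
      = cons n (Additive.ofMul a) := by
    refine addHom_ext fun x => ?_
    simp only [AddMonoidHom.comp_apply, AddEquiv.coe_toAddMonoidHom, mul_symbol_symbol, cast_symbol,
      cons_symbol]
    congr 1
    funext i
    cases i using Fin.cases with
    | zero =>
      rw [comp_apply, show Fin.cast (Nat.add_comm 1 n).symm (0 : Fin (n + 1))
        = Fin.castAdd n (0 : Fin 1) from rfl, Fin.append_left]
      simp
    | succ k =>
      rw [comp_apply, show Fin.cast (Nat.add_comm 1 n).symm k.succ = Fin.natAdd 1 k from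
        Fin.ext (by simp [Nat.add_comm 1]), Fin.append_right, Fin.cons_succ]
  intro z; exact DFunLike.congr_fun this z

/-- A multilinear map that is antisymmetric under adjacent swaps and kills Steinberg tuples in the
first two positions descends to K. -/
theorem vanish_of_adjacent {M : Type*} [AddCommGroup M] {n : ℕ}
    (f : (Fin (n + 2) → Fˣ) → M)
    (hswap : ∀ x (i : Fin (n + 1)), f (x ∘ Equiv.swap i.castSucc i.succ) = -f x)
    (hst : ∀ x, (x 0 : F) + x 1 = 1 → f x = 0)
    (x : Fin (n + 2) → Fˣ) (hx : IsSteinberg F x) : f x = 0 := by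
  let H : Submonoid (Equiv.Perm (Fin (n + 2))) :=
    { carrier := {σ | ∀ y, f (y ∘ σ) = ((Equiv.Perm.sign σ : ℤˣ) : ℤ) • f y}
      one_mem' := by intro y; simp
      mul_mem' := by
        intro σ τ hσ hτ y
        rw [Equiv.Perm.coe_mul, ← Function.comp_assoc, hτ, hσ, smul_smul, map_mul, Units.val_mul,
          mul_comm] }
  have hH : H = ⊤ := by
    rw [eq_top_iff, ← Equiv.Perm.mclosure_swap_castSucc_succ (n + 1), Submonoid.closure_le]
    rintro _ ⟨i, rfl⟩ y
    rw [hswap, Equiv.Perm.sign_swap (Fin.castSucc_lt_succ (i := i)).ne]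
    simp
  obtain ⟨i, j, hij, h⟩ := hx
  let σ₁ : Equiv.Perm (Fin (n + 2)) := Equiv.swap 0 i
  let σ : Equiv.Perm (Fin (n + 2)) := σ₁ * Equiv.swap 1 (σ₁ j)
  have h0 : σ 0 = i := by
    have hne : σ₁ j ≠ 0 := fun e => hij.ne' (σ₁.injective (by simp [e, σ₁]))
    simp [σ, σ₁, Equiv.swap_apply_of_ne_of_ne Fin.zero_ne_one hne.symm]
  have h1 : σ 1 = j := by simp [σ, σ₁]
  have hz := hst (x ∘ σ) (by simp [h0, h1, h])
  have hm : σ ∈ H := by rw [hH]; trivial
  rw [hm x] at hz
  rcases Int.units_eq_one_or (Equiv.Perm.sign σ) with e | e <;> simpa [e] using hz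

end Groth.Agent.MilnorK
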