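import Groth.Agent.MilnorK.Basic
import Mathlib.RingTheory.DiscreteValuationRing.Basic
import Mathlib.RingTheory.LocalRing.ResidueField.Basic
import Mathlib.Tactic.Module
import Mathlib.Tactic.FinCases
import Mathlib.Algebra.Ring.Int.Parity

/-! Tame symbol and specialisation map of a discrete valuation on Milnor K-groups. -/

namespace Groth.Agent.MilnorK

open MilK Function IsLocalRing
universe u v
variable {A : Type u} [CommRing A] [IsDomain A] [IsDiscreteValuationRing A]
variable {L : Type v} [Field L] [Algebra A L] [IsFractionRing A L]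
variable {ϖ : A} (hϖ : Irreducible ϖ)

/-- `(e, u) ↦ ϖ ^ e * u`. -/
noncomputable def decompHom : Multiplicative ℤ × Aˣ →* Lˣ where
  toFun p := unitFrac A L ϖ hϖ.ne_zero ^ p.1.toAdd * unitToFrac A L p.2
  map_one' := by simp
  map_mul' p q := by simp [zpow_add]; exact mul_mul_mul_comm _ _ _ _

theorem decompHom_bijective : Bijective (decompHom (L := L) hϖ) := by
  have hnat : ∀ (k : ℕ) (u : Aˣ), unitFrac A L ϖ hϖ.ne_zero ^ k * unitToFrac A L u = 1 → k = 0 := by
    intro k u hk
    have : algebraMap A L (ϖ ^ k * u) = algebraMap A L 1 := by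
      rw [map_mul, map_pow, map_one]; simpa [unitToFrac, Units.ext_iff] using hk
    have hu : IsUnit (ϖ ^ k) := IsUnit.of_mul_eq_one _ (IsFractionRing.injective A L this)
    by_contra h0
    exact hϖ.not_isUnit ((isUnit_pow_iff h0).1 hu)
  refine ⟨(injective_iff_map_eq_one _).2 ?_, ?_⟩
  · rintro ⟨e, u⟩ h
    simp only [decompHom, MonoidHom.coe_mk, OneHom.coe_mk] at h
    have he : e.toAdd = 0 := by
      rcases Int.eq_nat_or_neg e.toAdd with ⟨k, hk | hk⟩
      · rw [hk, zpow_natCast] at h; rw [hk, hnat k u h]; rfl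
      · rw [hk, zpow_neg, zpow_natCast, ← inv_eq_one, mul_inv, inv_inv, ← map_inv] at h
        rw [hk, hnat k u⁻¹ h]; rfl
    rw [he, zpow_zero, one_mul] at h
    have hu : (u : A) = 1 := by
      apply IsFractionRing.injective A L
      rw [map_one]
      exact congrArg Units.val h
    exact Prod.ext (Multiplicative.toAdd.injective he) (Units.ext hu)
  · intro x
    obtain ⟨⟨a, b, hb⟩, hab⟩ := IsLocalization.surj (nonZeroDivisors A) (x : L)
    have hb0 : b ≠ 0 := nonZeroDivisors.ne_zero hb
    have ha0 : a ≠ 0 := by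
      rintro rfl
      simp [mt (IsFractionRing.to_map_eq_zero_iff (K := L)).1 hb0] at hab
    obtain ⟨i, u, rfl⟩ := IsDiscreteValuationRing.eq_unit_mul_pow_irreducible ha0 hϖ
    obtain ⟨j, w, rfl⟩ := IsDiscreteValuationRing.eq_unit_mul_pow_irreducible hb0 hϖ
    refine ⟨(Multiplicative.ofAdd ((i : ℤ) - j), u / w), ?_⟩
    apply Units.ext
    have hw : algebraMap A L w ≠ 0 := (w.isUnit.map _).ne_zero
    have hp : algebraMap A L ϖ ≠ 0 := mt (IsFractionRing.to_map_eq_zero_iff (K := L)).1 hϖ.ne_zero
    simp only [map_mul, map_pow] at hab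
    simp only [decompHom, MonoidHom.coe_mk, OneHom.coe_mk, toAdd_ofAdd, map_div, Units.val_mul,
      Units.val_zpow_eq_zpow_val, Units.val_div_eq_div_val, coe_unitFrac, unitToFrac, Units.coe_map,
      MonoidHom.coe_coe, zpow_sub₀ hp, zpow_natCast]
    rw [div_mul_div_comm, div_eq_iff (mul_ne_zero (pow_ne_zero _ hp) hw)]
    linear_combination -hab

/-- The decomposition of the units of the fraction field. -/
noncomputable def decomp : Lˣ ≃* Multiplicative ℤ × Aˣ :=
  (MulEquiv.ofBijective (decompHom hϖ) (decompHom_bijective hϖ)).symm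

/-- The valuation. -/
noncomputable def ord : Additive Lˣ →+ ℤ :=
  MonoidHom.toAdditiveLeft ((MonoidHom.fst _ _).comp (decomp (L := L) hϖ).toMonoidHom)

/-- The residue of the unit part. -/
noncomputable def res : Lˣ →* (ResidueField A)ˣ :=
  (unitResidue A).comp ((MonoidHom.snd _ _).comp (decomp (L := L) hϖ).toMonoidHom)

theorem decomp_apply (e : ℤ) (u : Aˣ) :
    decomp (L := L) hϖ (unitFrac A L ϖ hϖ.ne_zero ^ e * unitToFrac A L u)
      = (Multiplicative.ofAdd e, u) :=
  (MulEquiv.symm_apply_eq _).2 rfl

theorem ord_apply (e : ℤ) (u : Aˣ) :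
    ord (L := L) hϖ (Additive.ofMul (unitFrac A L ϖ hϖ.ne_zero ^ e * unitToFrac A L u)) = e :=
  congrArg (fun p : Multiplicative ℤ × Aˣ => p.1.toAdd) (decomp_apply (L := L) hϖ e u)

theorem res_apply (e : ℤ) (u : Aˣ) :
    res (L := L) hϖ (unitFrac A L ϖ hϖ.ne_zero ^ e * unitToFrac A L u) = unitResidue A u :=
  congrArg (fun p : Multiplicative ℤ × Aˣ => unitResidue A p.2) (decomp_apply (L := L) hϖ e u)

theorem ord_unit (u : Aˣ) : ord (L := L) hϖ (Additive.ofMul (unitToFrac A L u)) = 0 := by
  simpa using ord_apply (L := L) hϖ 0 u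

theorem res_unit (u : Aˣ) : res (L := L) hϖ (unitToFrac A L u) = unitResidue A u := by
  simpa using res_apply (L := L) hϖ 0 u

theorem ord_pi : ord (L := L) hϖ (Additive.ofMul (unitFrac A L ϖ hϖ.ne_zero)) = 1 := by
  simpa using ord_apply (L := L) hϖ 1 1

theorem res_pi : res (L := L) hϖ (unitFrac A L ϖ hϖ.ne_zero) = 1 := by
  simpa using res_apply (L := L) hϖ 1 1

theorem exists_decomp (x : Lˣ) :
    ∃ (e : ℤ) (u : Aˣ), x = unitFrac A L ϖ hϖ.ne_zero ^ e * unitToFrac A L u := by
  obtain ⟨⟨e, u⟩, h⟩ := (decompHom_bijective (L := L) hϖ).2 x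
  exact ⟨e.toAdd, u, h.symm⟩

theorem unitResidue_val (u : Aˣ) :
    ((unitResidue A u : (ResidueField A)ˣ) : ResidueField A) = residue A u := rfl

theorem unitResidue_surjective : Surjective (unitResidue A) := by
  intro y
  obtain ⟨a, ha⟩ := residue_surjective (R := A) (y : ResidueField A)
  have hu : IsUnit a := (residue_ne_zero_iff_isUnit a).1 (by rw [ha]; exact y.ne_zero)
  exact ⟨hu.unit, Units.ext (by rw [unitResidue_val]; exact ha)⟩

/-- The three cases of a pair of units with sum `1`. -/
theorem stein_cases {a b : Lˣ} (h : (a : L) + b = 1) :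
    (ord (L := L) hϖ (.ofMul b) = 0 ∧ res hϖ b = 1) ∨
    (ord (L := L) hϖ (.ofMul a) = 0 ∧ res hϖ a = 1) ∨
    (ord (L := L) hϖ (.ofMul a) = 0 ∧ ord (L := L) hϖ (.ofMul b) = 0 ∧
      (res hϖ a : ResidueField A) + res hϖ b = 1) ∨
    (ord (L := L) hϖ (.ofMul a) = ord (L := L) hϖ (.ofMul b) ∧ res hϖ b = -res hϖ a) := by
  obtain ⟨e, u, rfl⟩ := exists_decomp hϖ a
  obtain ⟨f, w, rfl⟩ := exists_decomp hϖ b
  simp only [ord_apply, res_apply]
  set p := algebraMap A L ϖ with hpdef
  have hp : p ≠ 0 := mt (IsFractionRing.to_map_eq_zero_iff (K := L)).1 hϖ.ne_zero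
  simp only [Units.val_mul, Units.val_zpow_eq_zpow_val, coe_unitFrac, unitToFrac, Units.coe_map,
    MonoidHom.coe_coe, ← hpdef] at h
  have inj : ∀ {x y : A}, algebraMap A L x = algebraMap A L y → x = y :=
    fun hxy => IsFractionRing.injective A L hxy
  have hpr : ∀ k : ℕ, k ≠ 0 → residue A (ϖ ^ k) = 0 := by
    intro k hk
    rw [residue_eq_zero_iff, IsLocalRing.mem_maximalIdeal, mem_nonunits_iff]
    exact fun hu => hϖ.not_isUnit ((isUnit_pow_iff hk).1 hu)
  have hne : ∀ (x : Aˣ), residue A (x : A) ≠ 0 := fun x => (unitResidue A x).ne_zero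
  -- positive exponent for `a`
  have pos : ∀ (e f : ℤ) (u w : Aˣ),
      p ^ e * algebraMap A L u + p ^ f * algebraMap A L w = 1 →
      0 < e → f = 0 ∧ unitResidue A w = 1 := by
    intro e f u w h he
    obtain ⟨k, rfl⟩ := Int.eq_ofNat_of_zero_le he.le
    rw [zpow_natCast] at h
    have hk : k ≠ 0 := by omega
    rcases Int.eq_nat_or_neg f with ⟨l, rfl | rfl⟩
    · rw [zpow_natCast] at h
      have := congrArg (residue A) (inj (x := ϖ ^ k * u + ϖ ^ l * w) (y := 1) (by simpa using h))
      simp only [map_add, map_mul, hpr k hk, zero_mul, zero_add, map_one] at this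
      have hl : l = 0 := by
        by_contra hl
        simp [hpr l hl] at this
      subst hl
      exact ⟨rfl, Units.ext (by simpa [unitResidue_val] using this)⟩
    · rw [zpow_neg, zpow_natCast] at h
      have h' : algebraMap A L (ϖ ^ (k + l) * u + w) = algebraMap A L (ϖ ^ l) := by
        rw [map_add, map_mul, map_pow, map_pow, ← hpdef, pow_add]
        field_simp at h
        linear_combination h
      have := congrArg (residue A) (inj h')
      simp only [map_add, map_mul, hpr (k + l) (by omega), zero_mul, zero_add] at this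
      have hl : l = 0 := by
        by_contra hl
        exact hne w (this.trans (hpr l hl))
      subst hl
      exact ⟨by simp, Units.ext (by simpa [unitResidue_val] using this)⟩
  rcases lt_trichotomy e 0 with he | he | he
  · rcases lt_trichotomy f 0 with hf | hf | hf
    · -- both negative
      obtain ⟨k, rfl⟩ : ∃ k : ℕ, e = -k := ⟨(-e).toNat, by omega⟩
      obtain ⟨l, rfl⟩ : ∃ l : ℕ, f = -l := ⟨(-f).toNat, by omega⟩
      rw [zpow_neg, zpow_neg, zpow_natCast, zpow_natCast] at h
      have h' : algebraMap A L (ϖ ^ l * u + ϖ ^ k * w) = algebraMap A L (ϖ ^ (k + l)) := by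
        simp only [map_add, map_mul, map_pow, ← hpdef, pow_add]
        field_simp at h
        linear_combination h
      have hA := inj h'
      have hkl : k = l := by
        by_contra hne'
        rcases lt_or_gt_of_ne hne' with hlt | hlt
        · obtain ⟨d, rfl⟩ : ∃ d, l = k + d := ⟨l - k, by omega⟩
          have : ϖ ^ d * u + w = ϖ ^ (k + d) :=
            mul_left_cancel₀ (pow_ne_zero k hϖ.ne_zero) (by linear_combination hA)
          have := congrArg (residue A) this
          simp [hpr d (by omega), hpr (k + d) (by omega)] at this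
        · obtain ⟨d, rfl⟩ : ∃ d, k = l + d := ⟨k - l, by omega⟩
          have : (u : A) + ϖ ^ d * w = ϖ ^ (l + d) :=
            mul_left_cancel₀ (pow_ne_zero l hϖ.ne_zero) (by linear_combination hA)
          have := congrArg (residue A) this
          simp [hpr d (by omega), hpr (l + d) (by omega)] at this
      subst hkl
      have : (u : A) + w = ϖ ^ k :=
        mul_left_cancel₀ (pow_ne_zero k hϖ.ne_zero) (by linear_combination hA)
      have := congrArg (residue A) this
      rw [map_add, hpr k (by omega)] at this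
      refine Or.inr (Or.inr (Or.inr ⟨rfl, Units.ext ?_⟩))
      rw [Units.val_neg, unitResidue_val, unitResidue_val]
      exact eq_neg_of_add_eq_zero_right this
    · subst hf
      -- `b` is a unit, so `a` is integral
      obtain ⟨k, rfl⟩ : ∃ k : ℕ, e = -k := ⟨(-e).toNat, by omega⟩
      rw [zpow_neg, zpow_natCast, zpow_zero, one_mul] at h
      have h' : algebraMap A L (u + ϖ ^ k * w) = algebraMap A L (ϖ ^ k) := by
        simp only [map_add, map_mul, map_pow, ← hpdef]
        field_simp at h
        linear_combination h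
      have := congrArg (residue A) (inj h')
      simp [hpr k (by omega)] at this
    · obtain ⟨rfl, -⟩ := pos f e w u (by rw [add_comm]; exact h) hf
      omega
  · subst he
    rcases lt_trichotomy f 0 with hf | hf | hf
    · obtain ⟨l, rfl⟩ : ∃ l : ℕ, f = -l := ⟨(-f).toNat, by omega⟩
      rw [zpow_neg, zpow_natCast, zpow_zero, one_mul] at h
      have h' : algebraMap A L (ϖ ^ l * u + w) = algebraMap A L (ϖ ^ l) := by
        simp only [map_add, map_mul, map_pow, ← hpdef]
        field_simp at h
        linear_combination h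
      have := congrArg (residue A) (inj h')
      simp [hpr l (by omega)] at this
    · subst hf
      have := congrArg (residue A) (inj (x := (u : A) + w) (y := 1) (by simpa using h))
      exact Or.inr (Or.inr (Or.inl ⟨rfl, rfl, by simpa [unitResidue_val] using this⟩))
    · exact Or.inr (Or.inl ⟨rfl, (pos f 0 w u (by rw [add_comm]; exact h) hf).2⟩)
  · exact Or.inl (pos e f u w h he)

/-! ### The specialisation map -/

/-- Specialisation. -/
noncomputable def spec (n : ℕ) : K L n →+ K (ResidueField A) n :=
  MilK.lift ((symb (ResidueField A) n).compLinearMap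
      fun _ => (MonoidHom.toAdditive (res (L := L) hϖ)).toIntLinearMap)
    (fun x hx => by
      obtain ⟨i, j, hij, h⟩ := hx
      simp only [MultilinearMap.compLinearMap_apply, symb_apply, AddMonoidHom.coe_toIntLinearMap]
      rcases stein_cases (L := L) hϖ h with h' | h' | h' | h'
      · exact symbol_eq_zero_of_one _ j h'.2
      · exact symbol_eq_zero_of_one _ i h'.2
      · exact symbol_stein _ hij h'.2.2
      · exact symbol_self_neg _ hij.ne h'.2)

theorem spec_symbol {n : ℕ} (x : Fin n → Lˣ) :
    spec hϖ n (symbol x) = (symbol fun i => res hϖ (x i) : K (ResidueField A) n) := by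
  simp only [spec, lift_symbol, MultilinearMap.compLinearMap_apply, symb_apply]
  rfl

theorem spec_cons {n : ℕ} (a : Lˣ) (z : K L n) :
    spec hϖ (n + 1) (cons n (.ofMul a) z) = cons n (.ofMul (res hϖ a)) (spec hϖ n z) := by
  revert z
  have : (spec hϖ (n + 1)).comp (cons n (.ofMul a))
      = (cons n (.ofMul (res hϖ a))).comp (spec hϖ n) := by
    refine addHom_ext fun x => ?_
    simp only [AddMonoidHom.comp_apply, cons_symbol, spec_symbol]
    congr 1
    funext i
    cases i using Fin.cases <;> simp
  intro z; exact DFunLike.congr_fun this z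

theorem spec_isSpecMap (n : ℕ) : IsSpecMap A L ϖ hϖ n (spec hϖ n) := by
  intro e u
  rw [spec_symbol]
  simp only [res_apply]

/-! ### The tame symbol -/

/-- `a ↦ -res a + ord a • {-1}`, acting by prepending. -/
noncomputable def twist : Additive Lˣ →+ Additive (ResidueField A)ˣ :=
  -MonoidHom.toAdditive (res (L := L) hϖ)
    + ((smulAddHom ℤ (Additive (ResidueField A)ˣ)).flip (Additive.ofMul (-1))).comp (ord hϖ)

theorem twist_apply (a : Additive Lˣ) :
    twist hϖ a = -Additive.ofMul (res hϖ a.toMul) + ord hϖ a • Additive.ofMul (-1) := rfl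


/-- The multilinear map underlying the specialisation. -/
noncomputable def specML (n : ℕ) :
    MultilinearMap ℤ (fun _ : Fin n => Additive Lˣ) (K (ResidueField A) n) :=
  (symb (ResidueField A) n).compLinearMap
    fun _ => (MonoidHom.toAdditive (res (L := L) hϖ)).toIntLinearMap

theorem specML_apply {n : ℕ} (x : Fin n → Lˣ) :
    specML hϖ n (fun i => Additive.ofMul (x i)) = spec hϖ n (symbol x) := by
  rw [spec_symbol]; rfl

/-- The multilinear map underlying the tame symbol. -/
noncomputable def tameML : ∀ n : ℕ,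
    MultilinearMap ℤ (fun _ : Fin (n + 1) => Additive Lˣ) (K (ResidueField A) n)
  | 0 => MultilinearMap.ofSubsingleton ℤ (Additive Lˣ) (K (ResidueField A) 0) (0 : Fin 1)
      (((smulAddHom ℤ (K (ResidueField A) 0)).flip (symbol ![])).comp (ord hϖ)).toIntLinearMap
  | n + 1 => LinearMap.uncurryLeft (AddMonoidHom.mk' (fun a =>
      ord hϖ a • specML hϖ (n + 1) + (cons n (twist hϖ a)).toIntLinearMap.compMultilinearMap (tameML n))
      (fun a b => by
        ext y
        simp only [MultilinearMap.add_apply, MultilinearMap.smul_apply, map_add, add_smul,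
          LinearMap.compMultilinearMap_apply, AddMonoidHom.coe_toIntLinearMap, AddMonoidHom.add_apply]
        abel)).toIntLinearMap

theorem tameML_succ {n : ℕ} (a : Lˣ) (y : Fin (n + 1) → Lˣ) :
    tameML hϖ (n + 1) (fun i => Additive.ofMul ((Fin.cons a y : Fin (n + 2) → Lˣ) i))
      = ord hϖ (.ofMul a) • spec hϖ (n + 1) (symbol y)
        + cons n (twist hϖ (.ofMul a)) (tameML hϖ n fun i => Additive.ofMul (y i)) := by
  rw [← specML_apply]
  rfl

theorem spec_cons_add (a : Lˣ) {n : ℕ} (x : Fin n → Lˣ) :
    spec hϖ (n + 1) (symbol (Fin.cons a x : Fin (n + 1) → Lˣ))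
      = cons n (.ofMul (res hϖ a)) (spec hϖ n (symbol x)) := by
  rw [← cons_symbol, spec_cons]

theorem cons_neg_one_two {n : ℕ} (z : K (ResidueField A) n) :
    (2 : ℤ) • cons n (Additive.ofMul (-1)) z = 0 := by
  rw [← AddMonoidHom.zsmul_apply, ← map_zsmul, two_smul_neg_one, map_zero, AddMonoidHom.zero_apply]

theorem tameML_swap : ∀ (n : ℕ) (x : Fin (n + 2) → Lˣ) (i : Fin (n + 1)),
    tameML hϖ (n + 1) (fun j => Additive.ofMul ((x ∘ Equiv.swap i.castSucc i.succ) j))
      = -tameML hϖ (n + 1) (fun j => Additive.ofMul (x j)) := by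
  have head : ∀ (a b : Lˣ) (n : ℕ) (t : Fin n → Lˣ),
      tameML hϖ (n + 1) (fun i => Additive.ofMul ((Fin.cons a (Fin.cons b t) : Fin (n + 2) → Lˣ) i))
        + tameML hϖ (n + 1)
          (fun i => Additive.ofMul ((Fin.cons b (Fin.cons a t) : Fin (n + 2) → Lˣ) i)) = 0 := by
    intro a b n t
    rw [tameML_succ, tameML_succ, spec_cons_add, spec_cons_add]
    cases n with
    | zero =>
      have e : ∀ c : Lˣ, tameML hϖ 0 (fun i => Additive.ofMul ((Fin.cons c t : Fin 1 → Lˣ) i))
          = ord hϖ (.ofMul c) • symbol ![] := fun c => rfl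
      have ht : spec hϖ 0 (symbol t) = (symbol ![] : K (ResidueField A) 0) := by
        rw [spec_symbol]; congr 1; funext i; exact i.elim0
      rw [e, e, ht]
      simp only [twist_apply, toMul_ofMul, map_add, map_neg, map_zsmul, AddMonoidHom.add_apply,
        AddMonoidHom.neg_apply, AddMonoidHom.zsmul_apply, smul_smul]
      have h2 := cons_neg_one_two (A := A) (symbol ![] : K (ResidueField A) 0)
      linear_combination (norm := module) (ord hϖ (Additive.ofMul a) * ord hϖ (Additive.ofMul b)) • h2
    | succ n =>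
      rw [tameML_succ, tameML_succ]
      simp only [map_add, map_zsmul]
      rw [cons_cons_anti (twist hϖ (.ofMul b))]
      simp only [twist_apply, toMul_ofMul, map_add, map_neg, map_zsmul, AddMonoidHom.add_apply,
        AddMonoidHom.neg_apply, AddMonoidHom.zsmul_apply, smul_smul]
      have h2 := cons_neg_one_two (A := A) (spec hϖ (n + 1) (symbol t))
      linear_combination (norm := module) (ord hϖ (Additive.ofMul a) * ord hϖ (Additive.ofMul b)) • h2
  intro n
  induction n with
  | zero =>
    intro x i
    fin_cases i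
    obtain ⟨a, y, rfl⟩ : ∃ a y, x = Fin.cons a y := ⟨_, _, (Fin.cons_self_tail x).symm⟩
    obtain ⟨b, t, rfl⟩ : ∃ b t, y = Fin.cons b t := ⟨_, _, (Fin.cons_self_tail y).symm⟩
    rw [eq_neg_iff_add_eq_zero, ← head b a 0 t]
    congr 2
    funext k
    fin_cases k <;> simp
  | succ n ih =>
    intro x i
    obtain ⟨a, y, rfl⟩ : ∃ a y, x = Fin.cons a y := ⟨_, _, (Fin.cons_self_tail x).symm⟩
    cases i using Fin.cases with
    | zero =>
      obtain ⟨b, t, rfl⟩ : ∃ b t, y = Fin.cons b t := ⟨_, _, (Fin.cons_self_tail y).symm⟩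
      rw [eq_neg_iff_add_eq_zero, ← head b a (n + 1) t]
      congr 2
      funext k
      cases k using Fin.cases with
      | zero => simp
      | succ k =>
        cases k using Fin.cases with
        | zero => simp
        | succ k =>
          rw [comp_apply, Equiv.swap_apply_of_ne_of_ne]
          · simp
          · simpa using Fin.succ_ne_zero k.succ
          · exact fun e => Fin.succ_ne_zero k (Fin.succ_injective _ e)
    | succ i =>
      have e : (Fin.cons a y : Fin (n + 3) → Lˣ) ∘ Equiv.swap i.succ.castSucc i.succ.succ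
          = Fin.cons a (y ∘ Equiv.swap i.castSucc i.succ) := by
        funext k
        cases k using Fin.cases with
        | zero =>
          rw [comp_apply, Equiv.swap_apply_of_ne_of_ne]
          · simp
          · rw [← Fin.succ_castSucc]; exact (Fin.succ_ne_zero _).symm
          · exact (Fin.succ_ne_zero _).symm
        | succ k =>
          simp only [comp_apply, Fin.cons_succ, ← Fin.succ_castSucc]
          rw [(Fin.succ_injective _).swap_apply]
          simp
      rw [e, tameML_succ, tameML_succ, ih y i]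
      have es : spec hϖ (n + 2) (symbol (y ∘ Equiv.swap i.castSucc i.succ))
          = -spec hϖ (n + 2) (symbol y) := by
        rw [symbol_swap y _ _ (Fin.castSucc_lt_succ (i := i)).ne, map_neg]
      rw [es, map_neg, smul_neg]
      abel

theorem tameML_stein {n : ℕ} (x : Fin (n + 2) → Lˣ) (h : (x 0 : L) + x 1 = 1) :
    tameML hϖ (n + 1) (fun j => Additive.ofMul (x j)) = 0 := by
  obtain ⟨a, y, rfl⟩ : ∃ a y, x = Fin.cons a y := ⟨_, _, (Fin.cons_self_tail x).symm⟩
  obtain ⟨b, t, rfl⟩ : ∃ b t, y = Fin.cons b t := ⟨_, _, (Fin.cons_self_tail y).symm⟩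
  simp only [Fin.cons_zero, show (1 : Fin (n + 2)) = Fin.succ 0 from rfl, Fin.cons_succ] at h
  have key : ∀ (ea eb : ℤ) (ra rb : (ResidueField A)ˣ),
      (eb = 0 ∧ rb = 1) ∨ (ea = 0 ∧ ra = 1) ∨ (ea = 0 ∧ eb = 0 ∧ (ra : ResidueField A) + rb = 1)
        ∨ (ea = eb ∧ rb = -ra) →
      (∀ {m : ℕ} (z : K (ResidueField A) m),
        ea • cons m (Additive.ofMul rb) z + eb • cons m (-Additive.ofMul ra + ea • Additive.ofMul (-1)) z
          = 0) ∧
      ∀ {m : ℕ} (z : K (ResidueField A) m),
        cons (m + 1) (-Additive.ofMul ra + ea • Additive.ofMul (-1))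
          (cons m (-Additive.ofMul rb + eb • Additive.ofMul (-1)) z) = 0 := by
    rintro ea eb ra rb (⟨rfl, rfl⟩ | ⟨rfl, rfl⟩ | ⟨rfl, rfl, hs⟩ | ⟨rfl, hb⟩)
    · simp
    · simp
    · refine ⟨fun z => by simp, fun z => ?_⟩
      simp [cons_cons_stein ra rb hs]
    · have hb' : Additive.ofMul rb = Additive.ofMul ra + Additive.ofMul (-1) := by
        rw [hb, ← ofMul_mul]; congr 1; simp
      obtain ⟨r, hr⟩ : (2 : ℤ) ∣ ea * ea + ea := by
        rcases Int.even_or_odd' ea with ⟨k, rfl | rfl⟩
        · exact ⟨2 * k * k + k, by ring⟩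
        · exact ⟨2 * k * k + 3 * k + 1, by ring⟩
      constructor
      · intro m z
        have h2 := cons_neg_one_two (A := A) z
        have hev : (ea * ea + ea) • cons m (Additive.ofMul (-1)) z = 0 := by
          rw [hr, mul_comm, mul_smul, h2, smul_zero]
        simp only [hb', map_add, map_neg, map_zsmul, AddMonoidHom.add_apply, AddMonoidHom.neg_apply,
          AddMonoidHom.zsmul_apply, smul_add, smul_smul]
        linear_combination (norm := module) hev
      · intro m z
        simp only [hb', map_add, map_neg, map_zsmul, AddMonoidHom.add_apply, AddMonoidHom.neg_apply,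
          AddMonoidHom.zsmul_apply, smul_add, smul_neg, smul_smul, neg_add, neg_neg]
        rw [cons_cons_anti (Additive.ofMul (-1)) (Additive.ofMul ra), cons_cons_self ra]
        have h2 := cons_neg_one_two (A := A) (cons m (Additive.ofMul (-1)) z)
        have h3 : (2 : ℤ) • cons (m + 1) (Additive.ofMul ra) (cons m (Additive.ofMul (-1)) z) = 0 := by
          rw [← map_zsmul, cons_neg_one_two, map_zero]
        linear_combination (norm := module) h3 + (r - ea) • h2 + (congrArg (fun c => c • cons (m + 1)
          (Additive.ofMul (-1)) (cons m (Additive.ofMul (-1)) z)) hr)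
  rw [tameML_succ, spec_cons_add]
  obtain ⟨k1, k2⟩ := key _ _ _ _ (stein_cases (L := L) hϖ h)
  cases n with
  | zero =>
    have e : tameML hϖ 0 (fun i => Additive.ofMul ((Fin.cons b t : Fin 1 → Lˣ) i))
        = ord hϖ (.ofMul b) • symbol ![] := rfl
    have ht : spec hϖ 0 (symbol t) = (symbol ![] : K (ResidueField A) 0) := by
      rw [spec_symbol]; congr 1; funext i; exact i.elim0
    rw [e, ht, map_zsmul, twist_apply, toMul_ofMul]
    exact k1 _
  | succ n =>
    rw [tameML_succ, map_add, map_zsmul, twist_apply, twist_apply, toMul_ofMul, toMul_ofMul, k2,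
      add_zero]
    exact k1 _

/-- The tame symbol. -/
noncomputable def tame (n : ℕ) : K L (n + 1) →+ K (ResidueField A) n :=
  MilK.lift (tameML hϖ n) (fun x hx => by
    match n, x, hx with
    | 0, x, hx =>
      obtain ⟨i, j, hij, -⟩ := hx
      have := Fin.lt_def.1 hij
      exact absurd this (by omega)
    | n + 1, x, hx =>
      exact vanish_of_adjacent (fun y => tameML hϖ (n + 1) fun j => Additive.ofMul (y j))
        (tameML_swap hϖ n) (tameML_stein hϖ) x hx)

theorem tame_cons {n : ℕ} (a : Lˣ) (z : K L (n + 1)) :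
    tame hϖ (n + 1) (cons (n + 1) (.ofMul a) z)
      = ord hϖ (.ofMul a) • spec hϖ (n + 1) z + cons n (twist hϖ (.ofMul a)) (tame hϖ n z) := by
  induction z using K_induction with
  | hs x => simp only [cons_symbol, tame, lift_symbol]; exact tameML_succ hϖ a x
  | h0 => simp
  | hadd p q hp hq => simp only [map_add, hp, hq, smul_add]; abel
  | hneg p hp => simp only [map_neg, hp, smul_neg]; abel

theorem tame_cons_zero (a : Lˣ) :
    tame hϖ 0 (cons 0 (.ofMul a) (symbol ![])) = ord hϖ (.ofMul a) • symbol ![] := by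
  simp only [cons_symbol, tame, lift_symbol]
  rfl

end Groth.Agent.MilnorK
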