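import Groth.Agent.MilnorK.DVR

/-! Structure of Milnor K-groups of a discretely valued field. -/

namespace Groth.Agent.MilnorK

set_option linter.unusedSectionVars false

open MilK Function IsLocalRing
universe u v
variable {A : Type u} [CommRing A] [IsDomain A] [IsDiscreteValuationRing A]
variable {L : Type v} [Field L] [Algebra A L] [IsFractionRing A L]
variable {ϖ : A} (hϖ : Irreducible ϖ)

variable (A L) in
/-- The symbol of a tuple of units of `A`. -/
noncomputable def usym {n : ℕ} (u : Fin n → Aˣ) : K L n := symbol fun i => unitToFrac A L (u i)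

variable (A L) in
/-- Subgroup generated by symbols of units. -/
noncomputable def unitsK (n : ℕ) : AddSubgroup (K L n) := AddSubgroup.closure (Set.range (usym A L))

theorem unitsK_eq (n : ℕ) : unitsK A L n =
    AddSubgroup.closure {z : K L n | ∃ u : Fin n → Aˣ, z = symbol (fun i => unitToFrac A L (u i))} := by
  unfold unitsK; congr 1; ext z
  exact ⟨fun ⟨u, h⟩ => ⟨u, h.symm⟩, fun ⟨u, h⟩ => ⟨u, h.symm⟩⟩

theorem usym_mem {n : ℕ} (u : Fin n → Aˣ) : usym A L u ∈ unitsK A L n :=
  AddSubgroup.subset_closure (Set.mem_range_self u)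

theorem usym_cons {n : ℕ} (a : Aˣ) (u : Fin n → Aˣ) :
    usym A L (Fin.cons a u : Fin (n + 1) → Aˣ)
      = cons n (.ofMul (unitToFrac A L a)) (usym A L u) := by
  rw [usym, usym, cons_symbol]
  congr 1
  funext i
  cases i using Fin.cases <;> simp

@[elab_as_elim]
theorem unitsK_induction {n : ℕ} {P : K L n → Prop} {z : K L n} (hz : z ∈ unitsK A L n)
    (hs : ∀ u, P (usym A L u)) (h0 : P 0) (hadd : ∀ a b, P a → P b → P (a + b))
    (hneg : ∀ a, P a → P (-a)) : P z := by
  induction hz using AddSubgroup.closure_induction with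
  | mem x hx => obtain ⟨y, rfl⟩ := hx; exact hs y
  | zero => exact h0
  | add a b _ _ ha hb => exact hadd a b ha hb
  | neg a _ ha => exact hneg a ha

theorem cons_mem_unitsK {n : ℕ} (a : Aˣ) {z : K L n} (hz : z ∈ unitsK A L n) :
    cons n (.ofMul (unitToFrac A L a)) z ∈ unitsK A L (n + 1) := by
  refine unitsK_induction hz (fun u => ?_) (by simp) (fun p q hp hq => ?_) (fun p hp => ?_)
  · rw [← usym_cons]; exact usym_mem _
  · rw [map_add]; exact add_mem hp hq
  · rw [map_neg]; exact neg_mem hp

theorem map_neg_one_frac : unitToFrac A L (-1) = -1 := by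
  apply Units.ext; simp [unitToFrac]

/-- Every class is `{π}·a + b` with `a`, `b` generated by units. -/
theorem exists_split : ∀ {n : ℕ} (x : K L (n + 1)), ∃ a ∈ unitsK A L n, ∃ b ∈ unitsK A L (n + 1),
    x = cons n (.ofMul (unitFrac A L ϖ hϖ.ne_zero)) a + b := by
  have tail : ∀ {n : ℕ} (x0 : Lˣ) {t : K L n}, t ∈ unitsK A L n →
      ∃ a ∈ unitsK A L n, ∃ b ∈ unitsK A L (n + 1),
        cons n (.ofMul x0) t = cons n (.ofMul (unitFrac A L ϖ hϖ.ne_zero)) a + b := by
    intro n x0 t ht
    obtain ⟨e, u, rfl⟩ := exists_decomp hϖ x0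
    refine ⟨e • t, zsmul_mem ht e, _, cons_mem_unitsK u ht, ?_⟩
    rw [ofMul_mul, ofMul_zpow, map_add, AddMonoidHom.add_apply, map_zsmul, map_zsmul,
      AddMonoidHom.zsmul_apply]
  intro n
  induction n with
  | zero =>
    intro x
    induction x using K_induction with
    | hs y =>
      rw [symbol_eq_cons]
      exact tail _ (AddSubgroup.subset_closure ⟨Fin.elim0, by rw [usym]; congr 1; funext i; exact i.elim0⟩)
    | h0 => exact ⟨0, zero_mem _, 0, zero_mem _, by simp⟩
    | hadd p q hp hq =>
      obtain ⟨a, ha, b, hb, rfl⟩ := hp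
      obtain ⟨a', ha', b', hb', rfl⟩ := hq
      exact ⟨a + a', add_mem ha ha', b + b', add_mem hb hb', by rw [map_add]; abel⟩
    | hneg p hp =>
      obtain ⟨a, ha, b, hb, rfl⟩ := hp
      exact ⟨-a, neg_mem ha, -b, neg_mem hb, by rw [map_neg]; abel⟩
  | succ n ih =>
    intro x
    induction x using K_induction with
    | hs y =>
      rw [symbol_eq_cons]
      obtain ⟨a, ha, b, hb, h⟩ := ih (symbol (Fin.tail y))
      obtain ⟨e, u, h0⟩ := exists_decomp hϖ (y 0)
      obtain ⟨a', ha', b', hb', h'⟩ := tail (y 0) hb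
      refine ⟨e • cons n (.ofMul (-1)) a - cons n (.ofMul (unitToFrac A L u)) a + a',
        add_mem (sub_mem (zsmul_mem ?_ e) (cons_mem_unitsK u ha)) ha', b', hb', ?_⟩
      · rw [← map_neg_one_frac (A := A)]; exact cons_mem_unitsK _ ha
      rw [h, map_add, h', h0, ofMul_mul, ofMul_zpow]
      simp only [map_add, map_sub, map_zsmul, AddMonoidHom.add_apply, AddMonoidHom.zsmul_apply]
      rw [cons_cons_self, cons_cons_anti (Additive.ofMul (unitToFrac A L u))]
      abel
    | h0 => exact ⟨0, zero_mem _, 0, zero_mem _, by simp⟩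
    | hadd p q hp hq =>
      obtain ⟨a, ha, b, hb, rfl⟩ := hp
      obtain ⟨a', ha', b', hb', rfl⟩ := hq
      exact ⟨a + a', add_mem ha ha', b + b', add_mem hb hb', by rw [map_add]; abel⟩
    | hneg p hp =>
      obtain ⟨a, ha, b, hb, rfl⟩ := hp
      exact ⟨-a, neg_mem ha, -b, neg_mem hb, by rw [map_neg]; abel⟩

theorem tame_usym : ∀ {n : ℕ} (u : Fin (n + 1) → Aˣ), tame hϖ n (usym A L u) = 0
  | 0, u => by
    obtain ⟨a, t, rfl⟩ : ∃ a t, u = Fin.cons a t := ⟨_, _, (Fin.cons_self_tail u).symm⟩
    rw [usym_cons, show usym A L t = symbol ![] by rw [usym]; congr 1; funext i; exact i.elim0,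
      tame_cons_zero, ord_unit, zero_smul]
  | n + 1, u => by
    obtain ⟨a, t, rfl⟩ : ∃ a t, u = Fin.cons a t := ⟨_, _, (Fin.cons_self_tail u).symm⟩
    rw [usym_cons, tame_cons, ord_unit, zero_smul, zero_add, tame_usym t, map_zero]

theorem tame_unitsK {n : ℕ} {z : K L (n + 1)} (hz : z ∈ unitsK A L (n + 1)) : tame hϖ n z = 0 := by
  refine unitsK_induction hz (tame_usym hϖ) (map_zero _) (fun p q hp hq => ?_) (fun p hp => ?_)
  · rw [map_add, hp, hq, add_zero]
  · rw [map_neg, hp, neg_zero]

theorem spec_usym {n : ℕ} (u : Fin n → Aˣ) :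
    spec hϖ n (usym A L u) = symbol fun i => unitResidue A (u i) := by
  rw [usym, spec_symbol]; simp only [res_unit]

theorem tame_cons_units {n : ℕ} (a : Lˣ) {z : K L n} (hz : z ∈ unitsK A L n) :
    tame hϖ n (cons n (.ofMul a) z) = ord hϖ (.ofMul a) • spec hϖ n z := by
  cases n with
  | zero =>
    refine unitsK_induction hz (fun u => ?_) (by simp) (fun p q hp hq => ?_) (fun p hp => ?_)
    · rw [show usym A L u = symbol ![] by rw [usym]; congr 1; funext i; exact i.elim0, tame_cons_zero,
        spec_symbol]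
      congr 2; funext i; exact i.elim0
    · rw [map_add, map_add, hp, hq, map_add, smul_add]
    · rw [map_neg, map_neg, hp, map_neg, smul_neg]
  | succ n => rw [tame_cons, tame_unitsK hϖ hz, map_zero, add_zero]

theorem tame_isTameSymbol (n : ℕ) : IsTameSymbol A L n (tame (L := L) hϖ n) := by
  intro p hp u
  obtain ⟨w, hw⟩ : ∃ w : Aˣ, p = ϖ * w := by
    obtain ⟨w, hw⟩ := (IsDiscreteValuationRing.associated_of_irreducible A hϖ hp)
    exact ⟨w, hw.symm⟩
  have e : unitFrac A L p hp.ne_zero = unitFrac A L ϖ hϖ.ne_zero ^ (1 : ℤ) * unitToFrac A L w := by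
    apply Units.ext; simp [unitToFrac, hw]
  rw [← cons_symbol, show (symbol fun i => unitToFrac A L (u i)) = usym A L u from rfl,
    tame_cons_units hϖ _ (usym_mem u), e, ord_apply, one_smul, spec_usym]

/-- Maps agreeing on uniformizer symbols are equal. -/
theorem tame_unique {n : ℕ} {d d' : K L (n + 1) →+ K (ResidueField A) n}
    (h : IsTameSymbol A L n d) (h' : IsTameSymbol A L n d') : d = d' := by
  have hcons : ∀ (p : A) (hp : Irreducible p) {z : K L n}, z ∈ unitsK A L n →
      d (cons n (.ofMul (unitFrac A L p hp.ne_zero)) z) =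
        d' (cons n (.ofMul (unitFrac A L p hp.ne_zero)) z) := by
    intro p hp z hz
    refine unitsK_induction hz (fun u => ?_) (by simp) (fun a b ha hb => ?_) (fun a ha => ?_)
    · rw [usym, cons_symbol, h p hp u, h' p hp u]
    · simp only [map_add, ha, hb]
    · simp only [map_neg, ha]
  obtain ⟨ϖ, hϖ⟩ := IsDiscreteValuationRing.exists_irreducible A
  ext x
  obtain ⟨a, ha, b, hb, rfl⟩ := exists_split hϖ x
  rw [map_add, map_add, hcons ϖ hϖ ha]
  congr 1
  refine unitsK_induction hb (fun u => ?_) (by simp) (fun a b ha hb => ?_) (fun a ha => ?_)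
  · obtain ⟨c, t, rfl⟩ : ∃ c t, u = Fin.cons c t := ⟨_, _, (Fin.cons_self_tail u).symm⟩
    have hpc : Irreducible (ϖ * (c : A)) := irreducible_mul_units c |>.2 hϖ
    have e : unitToFrac A L c
        = unitFrac A L (ϖ * (c : A)) hpc.ne_zero / unitFrac A L ϖ hϖ.ne_zero := by
      rw [eq_div_iff_mul_eq']; apply Units.ext; simp [unitToFrac, mul_comm]
    rw [usym_cons, e, ofMul_div, map_sub, AddMonoidHom.sub_apply, map_sub, map_sub,
      hcons _ hpc (usym_mem t), hcons _ hϖ (usym_mem t)]
  · simp only [map_add, ha, hb]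
  · simp only [map_neg, ha]

theorem eq_tame {n : ℕ} {d : K L (n + 1) →+ K (ResidueField A) n} (h : IsTameSymbol A L n d) :
    d = tame hϖ n := tame_unique h (tame_isTameSymbol hϖ n)

theorem eq_spec {n : ℕ} {s : K L n →+ K (ResidueField A) n} (h : IsSpecMap A L ϖ hϖ n s) :
    s = spec hϖ n := by
  refine addHom_ext fun x => ?_
  choose e u he using fun i => exists_decomp hϖ (x i)
  rw [show x = fun i => unitFrac A L ϖ hϖ.ne_zero ^ e i * unitToFrac A L (u i) from funext he]
  exact (h e u).trans (spec_isSpecMap hϖ n e u).symm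

theorem tame_cons_neg_pi {n : ℕ} (x : K L n) :
    tame hϖ n (cons n (.ofMul (-unitFrac A L ϖ hϖ.ne_zero)) x) = spec hϖ n x := by
  have e : -unitFrac A L ϖ hϖ.ne_zero
      = unitFrac A L ϖ hϖ.ne_zero ^ (1 : ℤ) * unitToFrac A L (-1 : Aˣ) := by
    rw [map_neg_one_frac]; simp
  cases n with
  | zero =>
    induction x using K_induction with
    | hs y =>
      rw [show y = ![] from funext fun i => i.elim0, tame_cons_zero, e, ord_apply, one_smul,
        spec_symbol]
      congr 1; funext i; exact i.elim0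
    | h0 => simp
    | hadd p q hp hq => simp only [map_add, hp, hq]
    | hneg p hp => simp only [map_neg, hp]
  | succ n =>
    rw [tame_cons, e, ord_apply, one_smul, twist_apply, toMul_ofMul, ord_apply, res_apply, one_smul,
      show unitResidue A (-1) = -1 from Units.ext (by simp [unitResidue_val]), neg_add_cancel,
      map_zero, AddMonoidHom.zero_apply, add_zero]

/-! ### One-units -/

variable (A L) in
/-- Subgroup generated by symbols with a one-unit entry. -/
noncomputable def oneUnitsK (n : ℕ) : AddSubgroup (K L n) :=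
  AddSubgroup.closure {z : K L n | ∃ (x : Fin n → Lˣ) (i : Fin n) (u : Aˣ),
    unitResidue A u = 1 ∧ x i = unitToFrac A L u ∧ z = symbol x}

theorem oneUnitsK_eq (n : ℕ) : oneUnitsK A L (n + 1) = AddSubgroup.closure
    {z : K L (n + 1) | ∃ (u₀ : Aˣ) (w : Fin n → Lˣ), residue A (u₀ : A) = 1 ∧
      z = symbol (Fin.cons (unitToFrac A L u₀) w)} := by
  apply le_antisymm <;> rw [oneUnitsK, AddSubgroup.closure_le]
  · rintro _ ⟨x, i, u, hu, hx, rfl⟩
    have key : (symbol x : K L (n + 1)) = ((Equiv.Perm.sign (Equiv.swap 0 i) : ℤˣ) : ℤ) •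
        symbol (Fin.cons (unitToFrac A L u) (Fin.tail (x ∘ Equiv.swap 0 i))) := by
      have e : (Fin.cons (unitToFrac A L u) (Fin.tail (x ∘ Equiv.swap 0 i)) : Fin (n + 1) → Lˣ)
          = x ∘ Equiv.swap 0 i := by
        have h0 : (x ∘ Equiv.swap 0 i) 0 = unitToFrac A L u := by simp [hx]
        rw [← h0, Fin.cons_self_tail]
      rw [e, ← symbol_perm, Function.comp_assoc, ← Equiv.coe_trans, Equiv.swap_swap]
      rfl
    rw [SetLike.mem_coe, key]
    refine zsmul_mem (AddSubgroup.subset_closure ?_) _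
    exact ⟨u, _, by simpa [Units.ext_iff, unitResidue_val] using hu, rfl⟩
  · rintro _ ⟨u, w, hu, rfl⟩
    exact AddSubgroup.subset_closure ⟨_, 0, u, Units.ext hu, by simp, rfl⟩

theorem oneUnitsK_cons {n : ℕ} (a : Lˣ) {z : K L n} (hz : z ∈ oneUnitsK A L n) :
    cons n (.ofMul a) z ∈ oneUnitsK A L (n + 1) := by
  induction hz using AddSubgroup.closure_induction with
  | mem x hx =>
    obtain ⟨x, i, u, hu, hx, rfl⟩ := hx
    rw [cons_symbol]
    exact AddSubgroup.subset_closure ⟨_, i.succ, u, hu, by simp [hx], rfl⟩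
  | zero => simp
  | add p q _ _ hp hq => rw [map_add]; exact add_mem hp hq
  | neg p _ hp => rw [map_neg]; exact neg_mem hp

theorem cons_oneUnit_mem {n : ℕ} {u : Aˣ} (hu : unitResidue A u = 1) (z : K L n) :
    cons n (.ofMul (unitToFrac A L u)) z ∈ oneUnitsK A L (n + 1) := by
  induction z using K_induction with
  | hs x =>
    rw [cons_symbol]
    exact AddSubgroup.subset_closure ⟨_, 0, u, hu, by simp, rfl⟩
  | h0 => simp
  | hadd p q hp hq => rw [map_add]; exact add_mem hp hq
  | hneg p hp => rw [map_neg]; exact neg_mem hp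

theorem cons_cons_one_sub_pi {n : ℕ} (w u : Aˣ) (hu : (u : A) = 1 - ϖ * w) {z : K L n}
    (hz : z ∈ unitsK A L n) : cons (n + 1) (.ofMul (unitToFrac A L u))
      (cons n (.ofMul (unitFrac A L ϖ hϖ.ne_zero)) z) ∈ unitsK A L (n + 2) := by
  have h := cons_cons_stein (n := n) (unitToFrac A L u)
    (unitFrac A L ϖ hϖ.ne_zero * unitToFrac A L w) (by simp [unitToFrac, hu]) z
  rw [ofMul_mul, map_add, AddMonoidHom.add_apply, map_add, add_eq_zero_iff_eq_neg] at h
  rw [h]
  exact neg_mem (cons_mem_unitsK u (cons_mem_unitsK w hz))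

theorem cons_oneUnit_units {n : ℕ} {u : Aˣ} (hu : unitResidue A u = 1) (x : K L n) :
    cons n (.ofMul (unitToFrac A L u)) x ∈ unitsK A L (n + 1) := by
  cases n with
  | zero =>
    obtain ⟨ϖ, hϖ⟩ := IsDiscreteValuationRing.exists_irreducible A
    induction x using K_induction with
    | hs y =>
      rw [show (symbol y : K L 0) = usym A L ![] by
        rw [usym]; congr 1; funext i; exact i.elim0]
      exact cons_mem_unitsK u (usym_mem _)
    | h0 => simp
    | hadd p q hp hq => rw [map_add]; exact add_mem hp hq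
    | hneg p hp => rw [map_neg]; exact neg_mem hp
  | succ n =>
    obtain ⟨ϖ, hϖ⟩ := IsDiscreteValuationRing.exists_irreducible A
    obtain ⟨a, ha, b, hb, rfl⟩ := exists_split hϖ x
    rw [map_add]
    refine add_mem ?_ (cons_mem_unitsK u hb)
    have hmem : (1 : A) - u ∈ maximalIdeal A := by
      rw [← residue_eq_zero_iff, map_sub, map_one, ← unitResidue_val, hu]; simp
    rw [hϖ.maximalIdeal_eq, Ideal.mem_span_singleton] at hmem
    obtain ⟨c, hc⟩ := hmem
    by_cases hcu : IsUnit c
    · exact cons_cons_one_sub_pi hϖ hcu.unit u (by simp; linear_combination -hc) ha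
    · have hnu : ∀ r : A, r ∈ nonunits A → IsUnit (1 - r) :=
        fun r hr => isUnit_one_sub_self_of_mem_nonunits _ hr
      have h1 : IsUnit (1 - ϖ) := hnu ϖ hϖ.not_isUnit
      have h2 : IsUnit (1 - c) := hnu c hcu
      set v := h1.unit
      have hv : (v : A) = 1 - ϖ := h1.unit_spec
      have hrest := cons_cons_one_sub_pi hϖ (-(v⁻¹ * h2.unit)) (u / v) (by
        rw [div_eq_mul_inv, Units.val_mul, Units.val_neg, Units.val_mul, h2.unit_spec]
        apply v.isUnit.mul_left_cancel
        rw [mul_left_comm, Units.mul_inv, mul_one, mul_sub, mul_one,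
          show (v : A) * (ϖ * -((↑v⁻¹ : A) * (1 - c))) = -((v : A) * ↑v⁻¹) * (ϖ * (1 - c)) by ring,
          Units.mul_inv, hv]
        linear_combination -hc) ha
      have hfirst := cons_cons_one_sub_pi hϖ 1 v (by simp [hv]) ha
      have e : unitToFrac A L u = unitToFrac A L (u / v) * unitToFrac A L v := by
        rw [← map_mul, div_mul_cancel]
      rw [e, ofMul_mul, map_add, AddMonoidHom.add_apply]
      exact add_mem hrest hfirst

theorem oneUnitsK_le_unitsK (n : ℕ) : oneUnitsK A L (n + 1) ≤ unitsK A L (n + 1) := by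
  rw [oneUnitsK_eq, AddSubgroup.closure_le]
  rintro _ ⟨u, w, hu, rfl⟩
  rw [← cons_symbol]
  exact cons_oneUnit_units (Units.ext hu) _

theorem usym_congr : ∀ {n : ℕ} (u u' : Fin n → Aˣ),
    (∀ i, unitResidue A (u i) = unitResidue A (u' i)) →
    usym A L u - usym A L u' ∈ oneUnitsK A L n
  | 0, u, u', _ => by
    rw [show u = u' from funext fun i => i.elim0, sub_self]; exact zero_mem _
  | n + 1, u, u', h => by
    obtain ⟨a, t, rfl⟩ : ∃ a t, u = Fin.cons a t := ⟨_, _, (Fin.cons_self_tail u).symm⟩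
    obtain ⟨a', t', rfl⟩ : ∃ a t, u' = Fin.cons a t := ⟨_, _, (Fin.cons_self_tail u').symm⟩
    have hr := usym_congr t t' fun i => by simpa using h i.succ
    have h0 : unitResidue A (a / a') = 1 := by
      rw [map_div, div_eq_one]; simpa using h 0
    rw [usym_cons, usym_cons, show unitToFrac A L a = unitToFrac A L (a / a') * unitToFrac A L a' by
      rw [← map_mul, div_mul_cancel], ofMul_mul, map_add, AddMonoidHom.add_apply, add_sub_assoc,
      ← map_sub]
    exact add_mem (cons_oneUnit_mem h0 _) (oneUnitsK_cons _ hr)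

variable (A) in
/-- A section of the reduction of units. -/
noncomputable def ulift (y : (ResidueField A)ˣ) : Aˣ := (unitResidue_surjective y).choose

theorem unitResidue_ulift (y : (ResidueField A)ˣ) : unitResidue A (ulift A y) = y :=
  (unitResidue_surjective y).choose_spec

variable (A L) in
theorem liftSym_update {n : ℕ} (y : Fin n → Additive (ResidueField A)ˣ) (i : Fin n)
    (a b : Additive (ResidueField A)ˣ) :
    (QuotientAddGroup.mk (usym A L fun j => ulift A (update y i (a + b) j).toMul) :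
        K L n ⧸ oneUnitsK A L n)
      = QuotientAddGroup.mk (usym A L fun j => ulift A (update y i a j).toMul)
        + QuotientAddGroup.mk (usym A L fun j => ulift A (update y i b j).toMul) := by
  have hu : ∀ c : Aˣ, (fun j => unitToFrac A L (update (fun j => ulift A (y j).toMul) i c j))
      = update (fun j => unitToFrac A L (ulift A (y j).toMul)) i (unitToFrac A L c) :=
    fun c => funext fun j => apply_update (fun _ => unitToFrac A L) _ _ _ j
  have hc : usym A L (update (fun j => ulift A (y j).toMul) i (ulift A a.toMul * ulift A b.toMul))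
      = usym A L (update (fun j => ulift A (y j).toMul) i (ulift A a.toMul))
        + usym A L (update (fun j => ulift A (y j).toMul) i (ulift A b.toMul)) := by
    simp only [usym, hu, map_mul, symbol_update_mul]
  have he : ∀ c, (fun j => ulift A (update y i c j).toMul)
      = update (fun j => ulift A (y j).toMul) i (ulift A c.toMul) := fun c =>
    funext fun j => apply_update (fun _ c => ulift A (Additive.toMul c)) _ _ _ j
  rw [← QuotientAddGroup.mk_add, he, he, he, ← hc, QuotientAddGroup.eq_iff_sub_mem]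
  refine usym_congr _ _ fun j => ?_
  rcases eq_or_ne j i with rfl | hj
  · simp [unitResidue_ulift]
  · simp [update_of_ne hj]

variable (A L) in
/-- The multilinear map underlying the lifting map. -/
noncomputable def liftSymML (n : ℕ) :
    MultilinearMap ℤ (fun _ : Fin n => Additive (ResidueField A)ˣ) (K L n ⧸ oneUnitsK A L n) :=
  MultilinearMap.mk' (fun y => QuotientAddGroup.mk (usym A L fun i => ulift A (y i).toMul))
    (fun y i a b => liftSym_update A L y i a b)
    (fun y i c a => AddMonoidHom.map_zsmul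
      (AddMonoidHom.mk' (fun a => (QuotientAddGroup.mk
        (usym A L fun j => ulift A (update y i a j).toMul) : K L n ⧸ oneUnitsK A L n))
        (liftSym_update A L y i)) c a)

variable (A L) in
/-- Lifting symbols from the residue field. -/
noncomputable def liftSym (n : ℕ) : K (ResidueField A) n →+ K L n ⧸ oneUnitsK A L n :=
  MilK.lift (liftSymML A L n) (fun x hx => by
    obtain ⟨i, j, hij, h⟩ := hx
    show (QuotientAddGroup.mk (usym A L fun i => ulift A (x i)) : K L n ⧸ oneUnitsK A L n) = 0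
    have h' : IsUnit (1 - (ulift A (x i) : A)) := by
      rw [← residue_ne_zero_iff_isUnit, map_sub, map_one, ← unitResidue_val, unitResidue_ulift,
        ← h, add_sub_cancel_left]
      exact (x j).ne_zero
    rw [← (QuotientAddGroup.eq_iff_sub_mem).2
      (usym_congr (update (fun k => ulift A (x k)) j h'.unit) (fun k => ulift A (x k)) fun k => ?_)]
    · rw [usym, symbol_stein _ hij]
      · rfl
      · simp [update_of_ne hij.ne, unitToFrac]
    · rcases eq_or_ne k j with rfl | hk
      · rw [update_self, unitResidue_ulift]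
        apply Units.ext
        rw [unitResidue_val, h'.unit_spec, map_sub, map_one, ← unitResidue_val, unitResidue_ulift,
          ← h, add_sub_cancel_left]
      · rw [update_of_ne hk])

theorem liftSym_spec {n : ℕ} {z : K L n} (hz : z ∈ unitsK A L n) :
    liftSym A L n (spec hϖ n z) = QuotientAddGroup.mk z := by
  refine unitsK_induction hz (fun u => ?_) (by simp) (fun p q hp hq => ?_) (fun p hp => ?_)
  · rw [spec_usym]
    show MilK.lift (liftSymML A L n) _ _ = _
    rw [lift_symbol]
    exact QuotientAddGroup.eq_iff_sub_mem.2 (usym_congr _ _ fun i => unitResidue_ulift _)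
  · simp only [map_add, hp, hq, QuotientAddGroup.mk_add]
  · simp only [map_neg, hp, QuotientAddGroup.mk_neg]

theorem mem_oneUnitsK_of_spec_eq_zero {n : ℕ} {z : K L n} (hz : z ∈ unitsK A L n)
    (h : spec hϖ n z = 0) : z ∈ oneUnitsK A L n := by
  rw [← QuotientAddGroup.eq_zero_iff, ← liftSym_spec hϖ hz, h, map_zero]

theorem spec_eq_zero_of_mem {n : ℕ} {z : K L n} (hz : z ∈ oneUnitsK A L n) :
    spec hϖ n z = 0 := by
  induction hz using AddSubgroup.closure_induction with
  | mem x hx =>
    obtain ⟨x, i, u, hu, hxi, rfl⟩ := hx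
    rw [spec_symbol]
    exact symbol_eq_zero_of_one _ i (by rw [hxi, res_unit, hu])
  | zero => exact map_zero _
  | add p q _ _ hp hq => rw [map_add, hp, hq, add_zero]
  | neg p _ hp => rw [map_neg, hp, neg_zero]

theorem exists_units_spec {n : ℕ} (y : K (ResidueField A) n) :
    ∃ z ∈ unitsK A L n, spec hϖ n z = y := by
  induction y using K_induction with
  | hs x => exact ⟨usym A L fun i => ulift A (x i), usym_mem _, by
      rw [spec_usym]; simp only [unitResidue_ulift]⟩
  | h0 => exact ⟨0, zero_mem _, map_zero _⟩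
  | hadd p q hp hq =>
    obtain ⟨a, ha, rfl⟩ := hp
    obtain ⟨b, hb, rfl⟩ := hq
    exact ⟨a + b, add_mem ha hb, map_add _ _ _⟩
  | hneg p hp =>
    obtain ⟨a, ha, rfl⟩ := hp
    exact ⟨-a, neg_mem ha, map_neg _ _⟩

theorem spec_tame_split {n : ℕ} {a : K L n} {b : K L (n + 1)} (ha : a ∈ unitsK A L n)
    (hb : b ∈ unitsK A L (n + 1)) :
    spec hϖ (n + 1) (cons n (.ofMul (unitFrac A L ϖ hϖ.ne_zero)) a + b) = spec hϖ (n + 1) b ∧
    tame hϖ n (cons n (.ofMul (unitFrac A L ϖ hϖ.ne_zero)) a + b) = spec hϖ n a := by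
  constructor
  · rw [map_add, spec_cons, res_pi, ofMul_one, map_zero, AddMonoidHom.zero_apply, zero_add]
  · rw [map_add, tame_cons_units hϖ _ ha, ord_pi, one_smul, tame_unitsK hϖ hb, add_zero]

theorem ker_tame (n : ℕ) : (tame hϖ n).ker = unitsK A L (n + 1) := by
  apply le_antisymm
  · intro z hz
    obtain ⟨a, ha, b, hb, rfl⟩ := exists_split hϖ z
    rw [AddMonoidHom.mem_ker, (spec_tame_split hϖ ha hb).2] at hz
    exact add_mem (oneUnitsK_le_unitsK n
      (oneUnitsK_cons _ (mem_oneUnitsK_of_spec_eq_zero hϖ ha hz))) hb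
  · intro z hz; exact tame_unitsK hϖ hz

theorem spec_tame_surjective (n : ℕ) :
    Surjective fun x : K L (n + 1) => (spec hϖ (n + 1) x, tame hϖ n x) := by
  rintro ⟨p, q⟩
  obtain ⟨a, ha, rfl⟩ := exists_units_spec (L := L) hϖ q
  obtain ⟨b, hb, rfl⟩ := exists_units_spec (L := L) hϖ p
  exact ⟨_, Prod.ext (spec_tame_split hϖ ha hb).1 (spec_tame_split hϖ ha hb).2⟩

theorem spec_tame_eq_zero_iff {n : ℕ} (x : K L (n + 1)) :
    spec hϖ (n + 1) x = 0 ∧ tame hϖ n x = 0 ↔ x ∈ oneUnitsK A L (n + 1) := by
  refine ⟨fun h => ?_, fun h => ⟨spec_eq_zero_of_mem hϖ h,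
    tame_unitsK hϖ (oneUnitsK_le_unitsK n h)⟩⟩
  obtain ⟨a, ha, b, hb, rfl⟩ := exists_split hϖ x
  rw [(spec_tame_split hϖ ha hb).1, (spec_tame_split hϖ ha hb).2] at h
  exact add_mem (oneUnitsK_cons _ (mem_oneUnitsK_of_spec_eq_zero hϖ ha h.2))
    (mem_oneUnitsK_of_spec_eq_zero hϖ hb h.1)

end Groth.Agent.MilnorK
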