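import Groth.Agent.MilnorK.Basic
import Mathlib.Data.Fin.Tuple.Sort
import Mathlib.Order.Interval.Finset.Fin
import Mathlib.RingTheory.Polynomial.Basic
import Mathlib.FieldTheory.RatFunc.AsPolynomial
import Mathlib.Tactic.Ring
import Mathlib.Tactic.Abel

/-! Generation of symbols of polynomials by monic irreducibles of increasing degree. -/

namespace Groth.Agent.MilnorK

open MilK Function Polynomial
universe u v
variable {k : Type u} [Field k] {L : Type v} [Field L] (φ : k[X] →+* L)

open Classical in
/-- The unit attached to a polynomial with nonzero image. -/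
noncomputable def pUnit (f : k[X]) : Lˣ := if h : φ f = 0 then 1 else Units.mk0 (φ f) h

theorem pUnit_val {f : k[X]} (h : φ f ≠ 0) : (pUnit φ f : L) = φ f := by
  rw [pUnit, dif_neg h]; rfl

theorem pUnit_eq {f : k[X]} (h : φ f ≠ 0) : pUnit φ f = Units.mk0 (φ f) h := by
  rw [pUnit, dif_neg h]

/-- The symbol of a tuple of polynomials. -/
noncomputable def psym {n : ℕ} (f : Fin n → k[X]) : K L n := symbol fun i => pUnit φ (f i)

theorem psym_update {n : ℕ} (f : Fin n → k[X]) (i : Fin n) (p : k[X]) :
    psym φ (update f i p) = symbol (update (fun j => pUnit φ (f j)) i (pUnit φ p)) := by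
  rw [psym]; congr 1; funext j; exact apply_update (fun _ => pUnit φ) f i p j

theorem psym_mul {n : ℕ} (f : Fin n → k[X]) (i : Fin n) {p q : k[X]} (hp : φ p ≠ 0) (hq : φ q ≠ 0)
    (h : f i = p * q) : psym φ f = psym φ (update f i p) + psym φ (update f i q) := by
  rw [psym_update, psym_update, ← symbol_update_mul, psym]
  congr 1
  funext j
  rcases eq_or_ne j i with rfl | hj
  · rw [update_self]
    apply Units.ext
    rw [Units.val_mul, pUnit_val φ hp, pUnit_val φ hq, pUnit_val φ (by rw [h, map_mul]; exact mul_ne_zero hp hq),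
      h, map_mul]
  · rw [update_of_ne hj]

theorem psym_add {n : ℕ} (f : Fin n → k[X]) {i j : Fin n} (hij : i ≠ j) {g : k[X]}
    (hi : φ (f i) ≠ 0) (hj : φ (f j) ≠ 0) (hg : φ g ≠ 0) (h : f j = f i + g) :
    psym φ f = psym φ (update f j g) - psym φ (update (update f i (f j)) j g)
      + psym φ (update (update f i (f j)) j (C (-1))) := by
  classical
  set x := fun l => pUnit φ (f l)
  let Φ : Lˣ → Lˣ → K L n := fun a b => symbol (update (update x i a) j b)
  have hl : ∀ a a' b, Φ (a / a') b = Φ a b - Φ a' b := fun a a' b => by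
    simp only [Φ, update_comm hij, symbol_update_div]
  have hr : ∀ a b b', Φ a (b / b') = Φ a b - Φ a b' := fun a b b' => symbol_update_div _ _ _ _
  have e1 : psym φ f = Φ (x i) (x j) := by simp [Φ, psym, x]
  have e2 : ∀ q, psym φ (update f j q) = Φ (x i) (pUnit φ q) := fun q => by
    simp [Φ, psym_update, x]
  have e3 : ∀ q, psym φ (update (update f i (f j)) j q) = Φ (x j) (pUnit φ q) := by
    intro q
    rw [psym_update]
    simp only [Φ]
    congr 2
    exact funext fun l => apply_update (fun _ => pUnit φ) f i (f j) l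
  have hst : Φ (x i / x j) (pUnit φ g / x j) = 0 := by
    refine symbol_stein_ne _ hij ?_
    rw [update_of_ne hij, update_self, update_self, Units.val_div_eq_div_val,
      Units.val_div_eq_div_val, pUnit_val φ hg]
    simp only [x, pUnit_val φ hi, pUnit_val φ hj]
    rw [← add_div, ← map_add, ← h, div_self hj]
  rw [hl, hr, hr] at hst
  have hself : Φ (x j) (x j) = Φ (x j) (pUnit φ (C (-1))) := by
    have hm : pUnit φ (C (-1) : k[X]) = -1 := by
      apply Units.ext; rw [pUnit_val] <;> simp
    simp only [Φ]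
    rw [symbol_self _ hij (by simp [update_of_ne hij]), update_idem, hm]
  rw [e1, e2, e3, e3, ← hself, ← sub_eq_zero, ← neg_eq_zero.2 hst]
  abel

/-- Constants first, then monic irreducibles of strictly increasing degree. -/
def IsNormal (dd : ℕ) {n : ℕ} (g : Fin n → k[X]) (m : ℕ) : Prop :=
  m ≤ n ∧ (∀ i : Fin n, (i : ℕ) < m → ∃ c : kˣ, g i = C (c : k)) ∧
  (∀ i : Fin n, m ≤ (i : ℕ) → (g i).Monic ∧ Irreducible (g i) ∧ (g i).natDegree ≤ dd) ∧
  (∀ i j : Fin n, m ≤ (i : ℕ) → i < j → (g i).natDegree < (g j).natDegree)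

variable (k) in
/-- The subgroup generated by normal symbols. -/
noncomputable def normalK (dd n : ℕ) : AddSubgroup (K L n) :=
  AddSubgroup.closure {z | ∃ (g : Fin n → k[X]) (m : ℕ), IsNormal dd g m ∧ z = psym φ g}

theorem sum_update_lt {n : ℕ} (f : Fin n → k[X]) (i : Fin n) {p : k[X]}
    (h : p.natDegree < (f i).natDegree) :
    ∑ j, (update f i p j).natDegree < ∑ j, (f j).natDegree := by
  apply Finset.sum_lt_sum
  · intro j _
    rcases eq_or_ne j i with rfl | hj
    · rw [update_self]; exact h.le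
    · rw [update_of_ne hj]
  · exact ⟨i, Finset.mem_univ _, by rw [update_self]; exact h⟩

theorem psym_mem_normalK {dd n : ℕ} (hφ : ∀ p : k[X], p ≠ 0 → p.natDegree ≤ dd → φ p ≠ 0)
    (f : Fin n → k[X]) (h0 : ∀ i, f i ≠ 0) (hd : ∀ i, (f i).natDegree ≤ dd) :
    psym φ f ∈ normalK k φ dd n := by
  classical
  suffices ∀ N M (f : Fin n → k[X]), (∀ i, f i ≠ 0) → (∀ i, (f i).natDegree ≤ dd) →
      (∑ i, (f i).natDegree) = N →
      (Finset.univ.filter fun i => 0 < (f i).natDegree ∧ ¬ (f i).Monic).card = M →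
      psym φ f ∈ normalK k φ dd n from this _ _ f h0 hd rfl rfl
  intro N
  induction N using Nat.strong_induction_on with
  | _ N ihN =>
  intro M
  induction M using Nat.strong_induction_on with
  | _ M ihM =>
  intro f h0 hd hN hM
  have upd : ∀ (f : Fin n → k[X]) (i : Fin n) (p : k[X]), (∀ j, f j ≠ 0) → p ≠ 0 →
      (∀ j, (f j).natDegree ≤ dd) → p.natDegree ≤ dd →
      (∀ j, update f i p j ≠ 0) ∧ ∀ j, (update f i p j).natDegree ≤ dd := by
    intro f i p a b c d
    refine ⟨fun j => ?_, fun j => ?_⟩ <;> rcases eq_or_ne j i with rfl | hj <;> simp [*]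
  have lower : ∀ (g : Fin n → k[X]), (∀ j, g j ≠ 0) ∧ (∀ j, (g j).natDegree ≤ dd) →
      (∑ j, (g j).natDegree) < N → psym φ g ∈ normalK k φ dd n :=
    fun g h hlt => ihN _ hlt _ g h.1 h.2 rfl rfl
  by_cases hmon : ∃ i, 0 < (f i).natDegree ∧ ¬ (f i).Monic
  · obtain ⟨i, hi, hnm⟩ := hmon
    set c := (f i).leadingCoeff
    have hc : c ≠ 0 := leadingCoeff_ne_zero.2 (h0 i)
    have hp0 : C c⁻¹ * f i ≠ 0 := mul_ne_zero (C_ne_zero.2 (inv_ne_zero hc)) (h0 i)
    have hpd : (C c⁻¹ * f i).natDegree = (f i).natDegree := natDegree_C_mul (inv_ne_zero hc)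
    rw [psym_mul φ f i (hφ (C c) (C_ne_zero.2 hc) (by simp))
      (hφ _ hp0 (hpd ▸ hd i)) (by rw [← mul_assoc, ← C_mul, mul_inv_cancel₀ hc, C_1, one_mul])]
    refine add_mem (lower _ (upd f i _ h0 (C_ne_zero.2 hc) hd (by simp))
      (hN ▸ sum_update_lt f i (by simpa using hi))) ?_
    refine ihM _ ?_ _ (upd f i _ h0 hp0 hd (hpd ▸ hd i)).1 (upd f i _ h0 hp0 hd (hpd ▸ hd i)).2
      ?_ rfl
    · rw [← hM]
      refine Finset.card_lt_card ((Finset.ssubset_iff_of_subset ?_).2 ⟨i, ?_, ?_⟩)
      · intro j hj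
        simp only [Finset.mem_filter, Finset.mem_univ, true_and] at hj ⊢
        rcases eq_or_ne j i with rfl | hji
        · exact ⟨hi, hnm⟩
        · rwa [update_of_ne hji] at hj
      · simp [hi, hnm]
      · simp only [Finset.mem_filter, Finset.mem_univ, true_and, update_self, not_and, not_not]
        intro _
        rw [Monic, leadingCoeff_mul, leadingCoeff_C, inv_mul_cancel₀ hc]
    · rw [← hN]
      refine Finset.sum_congr rfl fun j _ => ?_
      rcases eq_or_ne j i with rfl | hji <;> simp [*]
  push Not at hmon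
  by_cases hirr : ∃ i, 0 < (f i).natDegree ∧ ¬ Irreducible (f i)
  · obtain ⟨i, hi, hni⟩ := hirr
    obtain ⟨p, q, hpq, hp, hq⟩ : ∃ p q, f i = p * q ∧ ¬ IsUnit p ∧ ¬ IsUnit q := by
      by_contra hcon
      refine hni ⟨fun hu => ?_, fun a b hab => ?_⟩
      · rw [natDegree_eq_zero_of_isUnit hu] at hi; exact absurd hi (lt_irrefl 0)
      · by_contra hh; push Not at hh
        exact hcon ⟨a, b, hab, hh.1, hh.2⟩
    have hp0 : p ≠ 0 := left_ne_zero_of_mul (hpq ▸ h0 i)
    have hq0 : q ≠ 0 := right_ne_zero_of_mul (hpq ▸ h0 i)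
    have hsum : (f i).natDegree = p.natDegree + q.natDegree := by rw [hpq, natDegree_mul hp0 hq0]
    have hp1 : 0 < p.natDegree := by
      rw [Nat.pos_iff_ne_zero]; intro h
      exact hp (isUnit_iff_degree_eq_zero.2 (by rw [degree_eq_natDegree hp0, h]; rfl))
    have hq1 : 0 < q.natDegree := by
      rw [Nat.pos_iff_ne_zero]; intro h
      exact hq (isUnit_iff_degree_eq_zero.2 (by rw [degree_eq_natDegree hq0, h]; rfl))
    have hdi := hd i
    rw [psym_mul φ f i (hφ p hp0 (by omega)) (hφ q hq0 (by omega)) hpq]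
    exact add_mem (lower _ (upd f i p h0 hp0 hd (by omega)) (hN ▸ sum_update_lt f i (by omega)))
      (lower _ (upd f i q h0 hq0 hd (by omega)) (hN ▸ sum_update_lt f i (by omega)))
  push Not at hirr
  by_cases hrep : ∃ i j, i ≠ j ∧ 0 < (f i).natDegree ∧ (f i).natDegree = (f j).natDegree
  · obtain ⟨i, j, hij, hi, heq⟩ := hrep
    have hfi := hφ _ (h0 i) (hd i)
    have hfj := hφ _ (h0 j) (hd j)
    by_cases hsame : f i = f j
    · have : psym φ f = psym φ (update f j (C (-1))) := by
        rw [psym_update, psym, symbol_self _ hij (by rw [hsame])]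
        congr 2
        apply Units.ext; rw [pUnit_val] <;> simp
      rw [this]
      exact lower _ (upd f j _ h0 (by simp) hd (by simp))
        (hN ▸ sum_update_lt f j (by simp; omega))
    · set g := f j - f i with hg
      have hg0 : g ≠ 0 := sub_ne_zero.2 (Ne.symm hsame)
      have hgd : g.natDegree < (f j).natDegree := by
        rw [natDegree_lt_natDegree_iff hg0]
        refine degree_sub_lt_left ?_ (h0 j) ?_
        · rw [degree_eq_natDegree (h0 i), degree_eq_natDegree (h0 j), heq]
        · rw [(hmon j (heq ▸ hi)).leadingCoeff, (hmon i hi).leadingCoeff]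
      have hgdd : g.natDegree ≤ dd := hgd.le.trans (hd j)
      rw [psym_add φ f hij hfi hfj (hφ g hg0 hgdd) (by rw [hg, add_sub_cancel])]
      have key : ∀ q : k[X], q ≠ 0 → q.natDegree < (f j).natDegree →
          psym φ (update (update f i (f j)) j q) ∈ normalK k φ dd n := by
        intro q hq0 hqd
        obtain ⟨a, b⟩ := upd f i (f j) h0 (h0 j) hd (hd j)
        refine lower _ (upd _ j q a hq0 b (hqd.le.trans (hd j))) ?_
        refine lt_of_lt_of_eq (sum_update_lt (update f i (f j)) j ?_) ?_
        · rwa [update_of_ne hij.symm]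
        · rw [← hN]
          refine Finset.sum_congr rfl fun l _ => ?_
          rcases eq_or_ne l i with rfl | hl <;> simp [*]
      exact add_mem (sub_mem (lower _ (upd f j g h0 hg0 hd hgdd) (hN ▸ sum_update_lt f j hgd))
        (key g hg0 hgd)) (key _ (by simp) (by simp; omega))
  push Not at hrep
  -- sorted normal form
  let d := fun i => (f i).natDegree
  let σ := Tuple.sort d
  have hmono : Monotone (d ∘ σ) := Tuple.monotone_sort d
  let S := Finset.univ.filter fun i => d (σ i) = 0
  have hS : ∀ i : Fin n, (i : ℕ) < S.card ↔ d (σ i) = 0 := by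
    intro i
    refine ⟨fun h => ?_, fun h => ?_⟩
    · by_contra hne
      have : S ⊆ Finset.Iio i := fun l hl => by
        rw [Finset.mem_Iio]
        by_contra hle
        have := hmono (not_lt.1 hle)
        simp only [Function.comp_apply, S, Finset.mem_filter] at this hl
        omega
      have := Finset.card_le_card this
      rw [Fin.card_Iio] at this
      omega
    · have : Finset.Iic i ⊆ S := fun l hl => by
        have := hmono (Finset.mem_Iic.1 hl)
        simp only [Function.comp_apply] at this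
        simp only [S, Finset.mem_filter, Finset.mem_univ, true_and]
        omega
      have := Finset.card_le_card this
      rw [Fin.card_Iic] at this
      omega
  have hperm : psym φ f = ((Equiv.Perm.sign σ : ℤˣ) : ℤ) • psym φ (f ∘ σ) := by
    rw [psym, psym]
    simp only [Function.comp_apply]
    rw [show (fun i => pUnit φ (f (σ i))) = (fun i => pUnit φ (f i)) ∘ σ from rfl, symbol_perm,
      smul_smul, Int.units_coe_mul_self, one_smul]
  rw [hperm]
  refine zsmul_mem (AddSubgroup.subset_closure ?_) _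
  refine ⟨f ∘ σ, S.card, ⟨?_, ?_, ?_, ?_⟩, rfl⟩
  · exact (Finset.card_le_univ S).trans (by simp)
  · intro i hi
    have := eq_C_of_natDegree_eq_zero ((hS i).1 hi)
    refine ⟨Units.mk0 ((f (σ i)).coeff 0) fun h => h0 (σ i) ?_, this⟩
    rw [this, h, C_0]
  · intro i hi
    have hp : 0 < d (σ i) := Nat.pos_of_ne_zero fun h => absurd ((hS i).2 h) (not_lt.2 hi)
    exact ⟨hmon _ hp, hirr _ hp, hd _⟩
  · intro i j hi hij
    have hp : 0 < d (σ i) := Nat.pos_of_ne_zero fun h => absurd ((hS i).2 h) (not_lt.2 hi)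
    rcases eq_or_lt_of_le (hmono hij.le) with e | e
    · exact absurd e (hrep _ _ (σ.injective.ne hij.ne) hp)
    · exact e

/-- A normal symbol as a product of the constant part and the irreducible part. -/
theorem psym_normal_split {n m m' : ℕ} (h : m + m' = n) (g : Fin n → k[X]) :
    psym φ g = MilK.cast L h (MilK.mul L m m' (symbol fun i => pUnit φ (g (Fin.cast h (Fin.castAdd m' i))))
      (symbol fun j => pUnit φ (g (Fin.cast h (Fin.natAdd m j))))) := by
  subst h
  rw [mul_symbol_symbol, cast_rfl, AddEquiv.refl_apply, psym]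
  congr 1
  funext i
  refine Fin.addCases (fun l => ?_) (fun l => ?_) i
  · rw [Fin.append_left]; rfl
  · rw [Fin.append_right]; rfl

end Groth.Agent.MilnorK
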