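import Groth.Agent.MilnorK.DVRStructure
import Groth.Agent.MilnorK.PolyGen
import Mathlib.RingTheory.Localization.AtPrime.Basic
import Mathlib.RingTheory.Spectrum.Maximal.Basic
import Mathlib.Algebra.DirectSum.Basic
import Mathlib.FieldTheory.RatFunc.AsPolynomial
import Mathlib.RingTheory.PrincipalIdealDomain
import Mathlib.RingTheory.Polynomial.UniqueFactorization
import Mathlib.Tactic

/-! Milnor's exact sequence for a rational function field. -/

namespace Groth.Agent.MilnorK

open MilK Function Polynomial IsLocalRing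

set_option linter.unusedSectionVars false

universe u
variable {k : Type u} [Field k]

theorem exists_monic_gen (P : MaximalSpectrum k[X]) :
    ∃ π : k[X], π.Monic ∧ P.asIdeal = Ideal.span {π} := by
  classical
  have hne : P.asIdeal ≠ ⊥ := by
    intro h
    have hX : Ideal.span ({X} : Set k[X]) ≠ ⊤ := by
      rw [Ne, Ideal.span_singleton_eq_top]; exact not_isUnit_X
    have := P.isMaximal.eq_of_le hX (h ▸ bot_le)
    rw [h, eq_comm, Ideal.span_singleton_eq_bot] at this
    exact X_ne_zero this
  have hg := Submodule.IsPrincipal.generator P.asIdeal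
  set g := Submodule.IsPrincipal.generator P.asIdeal with hgdef
  have hg0 : g ≠ 0 := fun h => hne ((Submodule.IsPrincipal.eq_bot_iff_generator_eq_zero _).2 h)
  refine ⟨normalize g, monic_normalize hg0, ?_⟩
  rw [Ideal.span_singleton_eq_span_singleton.2 (normalize_associated g), Ideal.span_singleton_generator]

variable {ι : Type u} (m : ι ≃ MaximalSpectrum k[X])

/-- The monic generator. -/
noncomputable def pGen (i : ι) : k[X] := (exists_monic_gen (m i)).choose

theorem pGen_monic (i : ι) : (pGen m i).Monic := (exists_monic_gen (m i)).choose_spec.1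

theorem pGen_span (i : ι) : (m i).asIdeal = Ideal.span {pGen m i} :=
  (exists_monic_gen (m i)).choose_spec.2

theorem pGen_irreducible (i : ι) : Irreducible (pGen m i) := by
  have h := (m i).isMaximal.isPrime
  rw [pGen_span, Ideal.span_singleton_prime (pGen_monic m i).ne_zero] at h
  exact h.irreducible

theorem pGen_pos (i : ι) : 0 < (pGen m i).natDegree := (pGen_irreducible m i).natDegree_pos

theorem mem_iff_pGen (i : ι) (g : k[X]) : g ∈ (m i).asIdeal ↔ pGen m i ∣ g := by
  rw [pGen_span, Ideal.mem_span_singleton]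

theorem pGen_eq_of_span {i : ι} {π : k[X]} (hπ : π.Monic) (h : (m i).asIdeal = Ideal.span {π}) :
    pGen m i = π := by
  rw [pGen_span, Ideal.span_singleton_eq_span_singleton] at h
  exact eq_of_monic_of_associated (pGen_monic m i) hπ h

theorem pGen_injective : Injective (pGen m) := by
  intro i j h
  apply m.injective
  ext1
  rw [pGen_span, pGen_span, h]

theorem exists_pGen_eq {π : k[X]} (hπ : π.Monic) (hirr : Irreducible π) : ∃ i, pGen m i = π := by
  have hmax : (Ideal.span {π}).IsMaximal := PrincipalIdealRing.isMaximal_of_irreducible hirr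
  refine ⟨m.symm ⟨_, hmax⟩, pGen_eq_of_span m hπ ?_⟩
  rw [Equiv.apply_symm_apply]

theorem finite_dvd {g : k[X]} (hg : g ≠ 0) : {i | pGen m i ∣ g}.Finite := by
  classical
  refine Set.Finite.of_injOn (f := pGen m) (t := (UniqueFactorizationMonoid.normalizedFactors g).toFinset)
    (fun i hi => ?_) (pGen_injective m).injOn (Finset.finite_toSet _)
  simp only [SetLike.mem_coe, Multiset.mem_toFinset]
  obtain ⟨q, hq, hassoc⟩ := UniqueFactorizationMonoid.exists_mem_normalizedFactors_of_dvd hg
    (pGen_irreducible m i) hi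
  rwa [eq_of_monic_of_associated (pGen_monic m i)
    (by rw [← UniqueFactorizationMonoid.normalize_normalized_factor q hq]
        exact monic_normalize (UniqueFactorizationMonoid.irreducible_of_normalized_factor q hq).ne_zero)
    hassoc]

/-- The canonical map to rational functions. -/
noncomputable abbrev toRat : k[X] →+* RatFunc k := algebraMap k[X] (RatFunc k)

theorem toRat_ne_zero {g : k[X]} (hg : g ≠ 0) : toRat g ≠ 0 :=
  (map_ne_zero_iff _ (RatFunc.algebraMap_injective k)).2 hg

theorem unitFrac_eq_pUnit (g : k[X]) (hg : g ≠ 0) :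
    unitFrac k[X] (RatFunc k) g hg = pUnit toRat g :=
  (pUnit_eq toRat (toRat_ne_zero hg)).symm

/-- The subgroup generated by symbols of polynomials of degree at most `e`. -/
noncomputable def polyK (k : Type u) [Field k] (e n : ℕ) : AddSubgroup (K (RatFunc k) n) :=
  AddSubgroup.closure {z | ∃ f : Fin n → k[X], (∀ j, f j ≠ 0) ∧ (∀ j, (f j).natDegree ≤ e) ∧
    z = psym toRat f}

theorem polyK_eq (e n : ℕ) : polyK k e n = AddSubgroup.closure
    {z : K (RatFunc k) n | ∃ (f : Fin n → k[X]) (hf : ∀ j, f j ≠ 0), (∀ j, (f j).natDegree ≤ e) ∧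
      z = symbol (fun j => unitFrac k[X] (RatFunc k) (f j) (hf j))} := by
  unfold polyK
  congr 1
  ext z
  constructor
  · rintro ⟨f, hf, hd, rfl⟩; exact ⟨f, hf, hd, by simp only [unitFrac_eq_pUnit]; rfl⟩
  · rintro ⟨f, hf, hd, rfl⟩; exact ⟨f, hf, hd, by simp only [unitFrac_eq_pUnit]; rfl⟩

theorem polyK_mem {e n : ℕ} {f : Fin n → k[X]} (hf : ∀ j, f j ≠ 0)
    (hd : ∀ j, (f j).natDegree ≤ e) : psym toRat f ∈ polyK k e n :=
  AddSubgroup.subset_closure ⟨f, hf, hd, rfl⟩

theorem polyK_mono {e e' n : ℕ} (h : e ≤ e') : polyK k e n ≤ polyK k e' n := by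
  apply AddSubgroup.closure_mono
  rintro z ⟨f, hf, hd, rfl⟩
  exact ⟨f, hf, fun j => (hd j).trans h, rfl⟩

theorem psym_cons {L : Type*} [Field L] (φ : k[X] →+* L) {n : ℕ} (p : k[X]) (f : Fin n → k[X]) :
    psym φ (Fin.cons p f : Fin (n + 1) → k[X]) = cons n (.ofMul (pUnit φ p)) (psym φ f) := by
  rw [psym, psym, cons_symbol]
  congr 1; funext i; cases i using Fin.cases <;> simp

theorem exists_mem_polyK : ∀ {n : ℕ} (x : K (RatFunc k) n), ∃ e, x ∈ polyK k e n := by
  have hadd : ∀ {n : ℕ} {p q : K (RatFunc k) n}, (∃ e, p ∈ polyK k e n) → (∃ e, q ∈ polyK k e n) →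
      ∃ e, p + q ∈ polyK k e n := fun ⟨e, hp⟩ ⟨e', hq⟩ =>
    ⟨max e e', add_mem (polyK_mono (le_max_left ..) hp) (polyK_mono (le_max_right ..) hq)⟩
  intro n
  induction n with
  | zero =>
    intro x
    induction x using K_induction with
    | hs v =>
      exact ⟨0, AddSubgroup.subset_closure ⟨Fin.elim0, fun j => j.elim0, fun j => j.elim0,
        by rw [psym]; congr 1; funext j; exact j.elim0⟩⟩
    | h0 => exact ⟨0, zero_mem _⟩
    | hadd p q hp hq => exact hadd hp hq
    | hneg p hp => obtain ⟨e, hp⟩ := hp; exact ⟨e, neg_mem hp⟩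
  | succ n ih =>
    intro x
    induction x using K_induction with
    | h0 => exact ⟨0, zero_mem _⟩
    | hadd p q hp hq => exact hadd hp hq
    | hneg p hp => obtain ⟨e, hp⟩ := hp; exact ⟨e, neg_mem hp⟩
    | hs v =>
      obtain ⟨e, he⟩ := ih (symbol (Fin.tail v))
      rw [symbol_eq_cons]
      generalize (symbol (Fin.tail v) : K (RatFunc k) n) = t at he
      have hcons : ∀ (p : k[X]), p ≠ 0 →
          cons n (.ofMul (pUnit toRat p)) t ∈
            polyK k (max e p.natDegree) (n + 1) := by
        intro p hp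
        induction he using AddSubgroup.closure_induction with
        | mem z hz =>
          obtain ⟨f, hf, hd, rfl⟩ := hz
          rw [← psym_cons]
          refine polyK_mem (fun j => ?_) (fun j => ?_) <;> cases j using Fin.cases <;>
            simp only [Fin.cons_zero, Fin.cons_succ]
          · exact hp
          · exact hf _
          · exact le_max_right _ _
          · exact (hd _).trans (le_max_left _ _)
        | zero => simp
        | add a b _ _ ha hb => rw [map_add]; exact add_mem ha hb
        | neg a _ ha => rw [map_neg]; exact neg_mem ha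
      set r : RatFunc k := (v 0 : RatFunc k)
      have hden : r.denom ≠ 0 := r.denom_ne_zero
      have hnum : r.num ≠ 0 := RatFunc.num_ne_zero (v 0).ne_zero
      have e0 : v 0 = pUnit toRat r.num / pUnit toRat r.denom := by
        apply Units.ext
        rw [Units.val_div_eq_div_val, pUnit_val _ (toRat_ne_zero hnum),
          pUnit_val _ (toRat_ne_zero hden)]
        exact (RatFunc.num_div_denom r).symm
      rw [e0, ofMul_div, map_sub, AddMonoidHom.sub_apply, sub_eq_add_neg]
      exact hadd ⟨_, hcons _ hnum⟩ ⟨_, neg_mem (hcons _ hden)⟩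

/-! ### Local rings at the closed points -/

section Local

variable {A : ι → Type u} [∀ i, CommRing (A i)] [∀ i, IsDomain (A i)]
  [∀ i, IsDiscreteValuationRing (A i)] [∀ i, Algebra k[X] (A i)]
  [∀ i, IsLocalization.AtPrime (A i) (m i).asIdeal] [∀ i, Algebra (A i) (RatFunc k)]
  [∀ i, IsScalarTower k[X] (A i) (RatFunc k)] [∀ i, IsFractionRing (A i) (RatFunc k)]

variable (A) in
/-- Evaluation at a closed point. -/
noncomputable def ev (i : ι) : k[X] →+* ResidueField (A i) :=
  (residue (A i)).comp (algebraMap k[X] (A i))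

theorem ev_eq_zero_iff (i : ι) (g : k[X]) : ev A i g = 0 ↔ pGen m i ∣ g := by
  rw [ev, RingHom.comp_apply, residue_eq_zero_iff,
    IsLocalization.AtPrime.to_map_mem_maximal_iff (A i) (m i).asIdeal, mem_iff_pGen]

theorem irreducible_pGen_map (i : ι) : Irreducible (algebraMap k[X] (A i) (pGen m i)) := by
  rw [IsDiscreteValuationRing.irreducible_iff_uniformizer,
    ← IsLocalization.AtPrime.map_eq_maximalIdeal (m i).asIdeal (A i), pGen_span, Ideal.map_span,
    Set.image_singleton]

theorem isUnit_map_of_not_dvd {i : ι} {g : k[X]} (h : ¬ pGen m i ∣ g) :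
    IsUnit (algebraMap k[X] (A i) g) :=
  (IsLocalization.AtPrime.isUnit_to_map_iff (A i) (m i).asIdeal g).2 (by
    rwa [Ideal.mem_primeCompl_iff, mem_iff_pGen])

theorem pUnit_eq_unitToFrac {i : ι} {g : k[X]} (h : ¬ pGen m i ∣ g) :
    pUnit toRat g = unitToFrac (A i) (RatFunc k) (isUnit_map_of_not_dvd m h).unit := by
  have hg : g ≠ 0 := fun h0 => h (h0 ▸ dvd_zero _)
  apply Units.ext
  rw [pUnit_val _ (toRat_ne_zero hg)]
  exact (IsScalarTower.algebraMap_apply k[X] (A i) (RatFunc k) g).trans
    (by rw [unitToFrac, Units.coe_map]; rfl)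

theorem pUnit_pGen (i : ι) : pUnit toRat (pGen m i) =
    unitFrac (A i) (RatFunc k) (algebraMap k[X] (A i) (pGen m i))
      (irreducible_pGen_map (A := A) m i).ne_zero := by
  apply Units.ext
  rw [pUnit_val _ (toRat_ne_zero (pGen_monic m i).ne_zero), coe_unitFrac]
  exact IsScalarTower.algebraMap_apply k[X] (A i) (RatFunc k) _

theorem exists_rep (i : ι) (y : ResidueField (A i)) :
    ∃ g : k[X], g.natDegree < (pGen m i).natDegree ∧ ev A i g = y := by
  have hsurj : ∃ g, ev (k := k) A i g = y := by
    obtain ⟨a, rfl⟩ := residue_surjective y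
    obtain ⟨⟨g, s, hs⟩, h⟩ := IsLocalization.surj (m i).asIdeal.primeCompl a
    have hs' : ¬ pGen m i ∣ s := by rwa [← mem_iff_pGen]
    obtain ⟨p, q, hpq⟩ := ((pGen_irreducible m i).coprime_iff_not_dvd.2 hs')
    refine ⟨g * q, ?_⟩
    have h' := congrArg (residue (A i)) h
    rw [map_mul] at h'
    have h1 : ev A i (p * pGen m i + q * s) = 1 := by rw [hpq, map_one]
    rw [map_add, map_mul, (ev_eq_zero_iff m i (pGen m i)).2 dvd_rfl, mul_zero, zero_add,
      map_mul] at h1
    rw [map_mul]
    simp only [ev, RingHom.comp_apply] at h1 ⊢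
    rw [← h', mul_assoc, mul_comm (residue (A i) (algebraMap k[X] (A i) s)), h1, mul_one]
  obtain ⟨g, rfl⟩ := hsurj
  refine ⟨g %ₘ pGen m i, natDegree_modByMonic_lt g (pGen_monic m i)
    (fun h => (pGen_irreducible m i).not_isUnit (h ▸ isUnit_one)), ?_⟩
  conv_rhs => rw [← modByMonic_add_div g (pGen m i)]
  rw [map_add, map_mul, (ev_eq_zero_iff m i (pGen m i)).2 dvd_rfl, zero_mul, add_zero]

variable (A) in
/-- The representative of smallest degree. -/
noncomputable def rep (i : ι) (y : ResidueField (A i)) : k[X] := (exists_rep m i y).choose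

theorem rep_degree (i : ι) (y : ResidueField (A i)) :
    (rep m A i y).natDegree < (pGen m i).natDegree := (exists_rep m i y).choose_spec.1

theorem ev_rep (i : ι) (y : ResidueField (A i)) : ev A i (rep m A i y) = y :=
  (exists_rep m i y).choose_spec.2

theorem eq_of_ev_eq {i : ι} {g h : k[X]} (hg : g.natDegree < (pGen m i).natDegree)
    (hh : h.natDegree < (pGen m i).natDegree) (e : ev A i g = ev A i h) : g = h := by
  rw [← sub_eq_zero, ← map_sub, ev_eq_zero_iff m] at e
  rw [← sub_eq_zero]
  by_contra h0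
  exact absurd ((natDegree_le_of_dvd e h0).trans (natDegree_sub_le g h)) (by omega)

theorem rep_ne_zero (i : ι) (y : (ResidueField (A i))ˣ) : rep m A i (y : ResidueField (A i)) ≠ 0 :=
  fun h => y.ne_zero (by rw [← ev_rep m i (y : ResidueField (A i)), h, map_zero])

theorem not_dvd_of_degree_lt {i : ι} {g : k[X]} (hg : g ≠ 0)
    (h : g.natDegree < (pGen m i).natDegree) : ¬ pGen m i ∣ g :=
  fun hd => absurd (natDegree_le_of_dvd hd hg) (not_le.2 h)

/-- The tame symbol at a closed point. -/
noncomputable def dAt (i : ι) (n : ℕ) :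
    K (RatFunc k) (n + 1) →+ K (ResidueField (A i)) n :=
  tame (L := RatFunc k) (irreducible_pGen_map (A := A) m i) n

theorem dAt_psym_eq_zero {i : ι} {n : ℕ} {f : Fin (n + 1) → k[X]} (h : ∀ j, ¬ pGen m i ∣ f j) :
    dAt (A := A) m i n (psym toRat f) = 0 := by
  have : psym toRat f = usym (A i) (RatFunc k) fun j => (isUnit_map_of_not_dvd m (h j)).unit := by
    rw [psym, usym]; congr 1; funext j; exact pUnit_eq_unitToFrac m (h j)
  rw [this]; exact tame_usym _ _

theorem dAt_cons_self {i : ι} {n : ℕ} {f : Fin n → k[X]} (h : ∀ j, ¬ pGen m i ∣ f j) :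
    dAt (A := A) m i n (psym toRat (Fin.cons (pGen m i) f : Fin (n + 1) → k[X]))
      = symbol fun j => unitResidue (A i) (isUnit_map_of_not_dvd m (h j)).unit := by
  have : psym toRat f = usym (A i) (RatFunc k) fun j => (isUnit_map_of_not_dvd m (h j)).unit := by
    rw [psym, usym]; congr 1; funext j; exact pUnit_eq_unitToFrac m (h j)
  rw [psym_cons, this, dAt, tame_cons_units _ _ (usym_mem _), pUnit_pGen (A := A) m, ord_pi, one_smul,
    spec_usym]

theorem dAt_polyK {i : ι} {n e : ℕ} (he : e < (pGen m i).natDegree) {x : K (RatFunc k) (n + 1)}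
    (hx : x ∈ polyK k e (n + 1)) : dAt (A := A) m i n x = 0 := by
  induction hx using AddSubgroup.closure_induction with
  | mem z hz =>
    obtain ⟨f, hf, hd, rfl⟩ := hz
    exact dAt_psym_eq_zero m fun j => not_dvd_of_degree_lt m (hf j) ((hd j).trans_lt he)
  | zero => exact map_zero _
  | add a b _ _ ha hb => rw [map_add, ha, hb, add_zero]
  | neg a _ ha => rw [map_neg, ha, neg_zero]

theorem finite_support_dAt {n : ℕ} (x : K (RatFunc k) (n + 1)) :
    {i | dAt (A := A) m i n x ≠ 0}.Finite := by
  obtain ⟨e, hx⟩ := exists_mem_polyK x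
  induction hx using AddSubgroup.closure_induction with
  | mem z hz =>
    obtain ⟨f, hf, hd, rfl⟩ := hz
    refine Set.Finite.subset (Set.finite_iUnion fun j => finite_dvd m (hf j)) fun i hi => ?_
    rw [Set.mem_iUnion]
    by_contra h
    push Not at h
    exact hi (dAt_psym_eq_zero m h)
  | zero => simp
  | add a b _ _ ha hb =>
    refine (ha.union hb).subset fun i hi => ?_
    by_contra h
    simp only [Set.mem_union, Set.mem_ofPred_eq, not_or, not_not] at h
    exact hi (by rw [map_add, h.1, h.2, add_zero])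
  | neg a _ ha => simpa using ha

variable (A) in
/-- The multilinear map underlying the section at a closed point. -/
noncomputable def sectFun (i : ι) {n : ℕ} (e : ℕ) (y : Fin n → Additive (ResidueField (A i))ˣ) :
    K (RatFunc k) (n + 1) ⧸ polyK k e (n + 1) :=
  QuotientAddGroup.mk (psym toRat (Fin.cons (pGen m i)
    (fun j => rep m A i ((y j).toMul : ResidueField (A i))) : Fin (n + 1) → k[X]))

theorem sectFun_update {i : ι} {n e : ℕ} (hi : (pGen m i).natDegree = e + 1)
    (y : Fin n → Additive (ResidueField (A i))ˣ) (j : Fin n) (a b : Additive (ResidueField (A i))ˣ) :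
    sectFun m A i e (update y j (a + b))
      = sectFun m A i e (update y j a) + sectFun m A i e (update y j b) := by
  classical
  set π := pGen m i
  set f : Fin (n + 1) → k[X] := Fin.cons π fun l => rep m A i ((y l).toMul : ResidueField (A i))
  have hshape : ∀ c, (Fin.cons π (fun l => rep m A i ((update y j c l).toMul : ResidueField (A i)))
      : Fin (n + 1) → k[X]) = update f j.succ (rep m A i (c.toMul : ResidueField (A i))) := by
    intro c
    rw [← Fin.cons_update]
    congr 1
    funext l
    exact apply_update (fun _ c => rep m A i ((Additive.toMul c : (ResidueField (A i))ˣ) :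
      ResidueField (A i))) y j c l
  simp only [sectFun]
  rw [hshape, hshape, hshape, ← QuotientAddGroup.mk_add, QuotientAddGroup.eq_iff_sub_mem]
  set g := rep m A i (a.toMul : ResidueField (A i))
  set h := rep m A i (b.toMul : ResidueField (A i))
  set r := rep m A i ((a + b).toMul : ResidueField (A i))
  have hg : g ≠ 0 := rep_ne_zero m i _
  have hh : h ≠ 0 := rep_ne_zero m i _
  have hr : r ≠ 0 := rep_ne_zero m i _
  have hgd : g.natDegree ≤ e := Nat.lt_succ_iff.1 (lt_of_lt_of_eq (rep_degree m i _) hi)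
  have hhd : h.natDegree ≤ e := Nat.lt_succ_iff.1 (lt_of_lt_of_eq (rep_degree m i _) hi)
  have hrd : r.natDegree ≤ e := Nat.lt_succ_iff.1 (lt_of_lt_of_eq (rep_degree m i _) hi)
  have hdvd : π ∣ g * h - r := by
    rw [← ev_eq_zero_iff (A := A) m, map_sub, map_mul, ev_rep, ev_rep, ev_rep, toMul_add,
      Units.val_mul, sub_self]
  obtain ⟨q, hq⟩ := hdvd
  have hgh : psym toRat (update f j.succ (g * h))
      = psym toRat (update f j.succ g) + psym toRat (update f j.succ h) := by
    rw [psym_mul toRat (update f j.succ (g * h)) j.succ (toRat_ne_zero hg) (toRat_ne_zero hh)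
      (update_self ..), update_idem, update_idem]
  rw [← hgh]
  rcases eq_or_ne q 0 with rfl | hq0
  · rw [mul_zero, sub_eq_zero] at hq
    rw [hq, sub_self]; exact zero_mem _
  have hqd : q.natDegree ≤ e := by
    have h1 : (π * q).natDegree ≤ e + e := by
      rw [← hq]
      exact (natDegree_sub_le _ _).trans (max_le (natDegree_mul_le.trans (add_le_add hgd hhd))
        (hrd.trans (Nat.le_add_right _ _)))
    rw [natDegree_mul (pGen_monic m i).ne_zero hq0, hi] at h1
    omega
  let Φ : (RatFunc k)ˣ → (RatFunc k)ˣ → K (RatFunc k) (n + 1) := fun p p' =>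
    symbol (update (update (fun l => pUnit toRat (f l)) 0 p) j.succ p')
  have h0j : (0 : Fin (n + 1)) ≠ j.succ := (Fin.succ_ne_zero j).symm
  have hl : ∀ p p' t, Φ (p * p') t = Φ p t + Φ p' t := fun p p' t => by
    simp only [Φ, update_comm h0j, symbol_update_mul]
  have hl' : ∀ p p' t, Φ (p / p') t = Φ p t - Φ p' t := fun p p' t => by
    simp only [Φ, update_comm h0j, symbol_update_div]
  have hr' : ∀ t p p', Φ t (p * p') = Φ t p + Φ t p' := fun t p p' => symbol_update_mul _ _ _ _
  have hr'' : ∀ t p p', Φ t (p / p') = Φ t p - Φ t p' := fun t p p' => symbol_update_div _ _ _ _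
  have hf0 : ∀ l : Fin (n + 1), l ≠ 0 → f l ≠ 0 ∧ (f l).natDegree ≤ e := by
    intro l hl
    obtain ⟨l, rfl⟩ := Fin.exists_succ_eq.2 hl
    simp only [f, Fin.cons_succ]
    exact ⟨rep_ne_zero m i _, Nat.lt_succ_iff.1 (lt_of_lt_of_eq (rep_degree m i _) hi)⟩
  have hmem : ∀ p p' : k[X], p ≠ 0 → p' ≠ 0 → p.natDegree ≤ e → p'.natDegree ≤ e →
      Φ (pUnit toRat p) (pUnit toRat p') ∈ polyK k e (n + 1) := by
    intro p p' hp hp' hpd hpd'
    have : Φ (pUnit toRat p) (pUnit toRat p') = psym toRat (update (update f 0 p) j.succ p') := by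
      rw [psym_update]
      simp only [Φ]
      congr 2
      exact funext fun l => (apply_update (fun _ => pUnit toRat) f 0 p l).symm
    rw [this]
    refine polyK_mem (fun l => ?_) fun l => ?_ <;>
    · rcases eq_or_ne l j.succ with rfl | hl
      · simpa
      rw [update_of_ne hl]
      rcases eq_or_ne l 0 with rfl | hl0
      · simpa
      rw [update_of_ne hl0]
      first | exact (hf0 l hl0).1 | exact (hf0 l hl0).2
  have hπu : ∀ t, psym toRat (update f j.succ t) = Φ (pUnit toRat π) (pUnit toRat t) := by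
    intro t
    rw [psym_update]
    simp only [Φ]
    congr 2
    exact (update_eq_self_iff.2 (by simp [f])).symm
  rw [hπu, hπu]
  set P := pUnit toRat π
  set Q := pUnit toRat q
  set G := pUnit toRat g
  set H := pUnit toRat h
  set R := pUnit toRat r
  have hu : pUnit toRat (g * h) = G * H := by
    apply Units.ext
    rw [Units.val_mul, pUnit_val _ (toRat_ne_zero (mul_ne_zero hg hh)),
      pUnit_val _ (toRat_ne_zero hg), pUnit_val _ (toRat_ne_zero hh), map_mul]
  rw [hu]
  have hst : Φ (Q * P / (G * H)) (R / (G * H)) = 0 := by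
    refine symbol_stein_ne _ h0j ?_
    rw [update_of_ne h0j, update_self, update_self, Units.val_div_eq_div_val,
      Units.val_div_eq_div_val, ← add_div, div_eq_one_iff_eq (Units.ne_zero _)]
    simp only [Q, P, G, H, R, Units.val_mul, pUnit_val _ (toRat_ne_zero hq0), pUnit_val _ (toRat_ne_zero hr),
      pUnit_val _ (toRat_ne_zero (pGen_monic m i).ne_zero), π, pUnit_val _ (toRat_ne_zero hg),
      pUnit_val _ (toRat_ne_zero hh)]
    rw [← map_mul, ← map_mul, ← map_add]
    congr 1
    linear_combination -hq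
  have huu : Φ (G * H) (G * H) = Φ (G * H) (pUnit toRat (C (-1))) := by
    simp only [Φ]
    rw [symbol_self _ h0j (by simp [update_of_ne h0j]), update_idem]
    congr 2
    apply Units.ext; rw [pUnit_val] <;> simp
  have key : Φ P R - Φ P (G * H)
      = -Φ Q R + Φ (G * H) R + Φ Q (G * H) - Φ (G * H) (pUnit toRat (C (-1))) := by
    rw [hl', hr'', hr'', hl, hl, huu] at hst
    rw [← sub_eq_zero, ← hst]
    abel
  rw [key, hl, hr', hl]
  exact sub_mem (add_mem (add_mem (neg_mem (hmem _ _ hq0 hr hqd hrd))
    (add_mem (hmem _ _ hg hr hgd hrd) (hmem _ _ hh hr hhd hrd)))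
    (add_mem (hmem _ _ hq0 hg hqd hgd) (hmem _ _ hq0 hh hqd hhd)))
    (add_mem (hmem _ _ hg (by simp) hgd (by simp)) (hmem _ _ hh (by simp) hhd (by simp)))

variable (A) in
/-- The section at a closed point of degree `e + 1`. -/
noncomputable def sect {e : ℕ} (i : {i // (pGen m i).natDegree = e + 1}) (n : ℕ) :
    K (ResidueField (A i.1)) n →+ K (RatFunc k) (n + 1) ⧸ polyK k e (n + 1) :=
  MilK.lift (MultilinearMap.mk' (sectFun m A i.1 e) (fun y j a b => sectFun_update m i.2 y j a b)
    (fun y j c a => AddMonoidHom.map_zsmul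
      (AddMonoidHom.mk' (fun a => sectFun m A i.1 e (update y j a)) (sectFun_update m i.2 y j)) c a))
    (fun x hx => by
      obtain ⟨j, l, hjl, h⟩ := hx
      show sectFun m A i.1 e (fun l => Additive.ofMul (x l)) = 0
      have hsum : rep m A i.1 (x j : ResidueField (A i.1)) + rep m A i.1 (x l : ResidueField (A i.1))
          = 1 := by
        refine eq_of_ev_eq (A := A) m (i := i.1) ?_ ?_ ?_
        · exact (natDegree_add_le _ _).trans_lt (max_lt (rep_degree m i.1 _) (rep_degree m i.1 _))
        · simpa using pGen_pos m i.1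
        · rw [map_add, ev_rep, ev_rep, h, map_one]
      rw [sectFun, psym, symbol_stein _ (Fin.succ_lt_succ_iff.2 hjl)]
      · rfl
      · simp only [Fin.cons_succ, toMul_ofMul]
        rw [pUnit_val _ (toRat_ne_zero (rep_ne_zero m _ _)),
          pUnit_val _ (toRat_ne_zero (rep_ne_zero m _ _)), ← map_add, hsum, map_one])

theorem sect_symbol {e n : ℕ} (i : {i // (pGen m i).natDegree = e + 1})
    (x : Fin n → (ResidueField (A i.1))ˣ) :
    sect m A i n (symbol x) = QuotientAddGroup.mk (psym toRat (Fin.cons (pGen m i.1)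
      (fun j => rep m A i.1 (x j : ResidueField (A i.1))) : Fin (n + 1) → k[X])) := by
  simp only [sect, lift_symbol]; rfl

theorem exists_sect_lift {e n : ℕ} (i : {i // (pGen m i).natDegree = e + 1})
    (y : K (ResidueField (A i.1)) n) : ∃ x ∈ polyK k (e + 1) (n + 1),
      (QuotientAddGroup.mk x : K (RatFunc k) (n + 1) ⧸ polyK k e (n + 1)) = sect m A i n y ∧
      dAt (A := A) m i.1 n x = y ∧
      ∀ j, j ≠ i.1 → (pGen m j).natDegree = e + 1 → dAt (A := A) m j n x = 0 := by
  induction y using K_induction with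
  | h0 => exact ⟨0, zero_mem _, by simp⟩
  | hadd p q hp hq =>
    obtain ⟨a, ha, ha1, ha2, ha3⟩ := hp
    obtain ⟨b, hb, hb1, hb2, hb3⟩ := hq
    exact ⟨a + b, add_mem ha hb, by rw [QuotientAddGroup.mk_add, ha1, hb1, map_add],
      by rw [map_add, ha2, hb2], fun j hj hjd => by rw [map_add, ha3 j hj hjd, hb3 j hj hjd, add_zero]⟩
  | hneg p hp =>
    obtain ⟨a, ha, ha1, ha2, ha3⟩ := hp
    exact ⟨-a, neg_mem ha, by rw [QuotientAddGroup.mk_neg, ha1, map_neg],
      by rw [map_neg, ha2], fun j hj hjd => by rw [map_neg, ha3 j hj hjd, neg_zero]⟩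
  | hs x =>
    have hnd : ∀ j, ¬ pGen m i.1 ∣ rep m A i.1 (x j : ResidueField (A i.1)) := fun j =>
      not_dvd_of_degree_lt m (rep_ne_zero m _ _) (rep_degree m _ _)
    refine ⟨psym toRat (Fin.cons (pGen m i.1)
      (fun j => rep m A i.1 (x j : ResidueField (A i.1))) : Fin (n + 1) → k[X]),
      ?_, (sect_symbol m i x).symm, ?_, fun j hj hjd => ?_⟩
    · refine polyK_mem (fun j => ?_) (fun j => ?_) <;> cases j using Fin.cases <;>
        simp only [Fin.cons_zero, Fin.cons_succ]
      · exact (pGen_monic m i.1).ne_zero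
      · exact rep_ne_zero m _ _
      · exact i.2.le
      · exact (i.2 ▸ rep_degree m i.1 _).le
    · rw [dAt_cons_self m hnd]
      congr 1; funext j
      apply Units.ext
      exact (congrArg (residue (A i.1)) (isUnit_map_of_not_dvd m (hnd j)).unit_spec).trans
        (ev_rep m i.1 _)
    · refine dAt_psym_eq_zero m fun l => ?_
      cases l using Fin.cases <;> simp only [Fin.cons_zero, Fin.cons_succ]
      · intro hd
        exact hj (pGen_injective m (eq_of_monic_of_associated (pGen_monic m j) (pGen_monic m i.1)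
          ((pGen_irreducible m j).associated_of_dvd (pGen_irreducible m i.1) hd)))
      · exact not_dvd_of_degree_lt m (rep_ne_zero m _ _) (lt_of_lt_of_eq (rep_degree m i.1 _) (i.2.trans hjd.symm))

theorem exists_sum {e n : ℕ} {x : K (RatFunc k) (n + 1)} (hx : x ∈ polyK k (e + 1) (n + 1)) :
    ∃ (s : Finset {i // (pGen m i).natDegree = e + 1})
      (y : ∀ i : {i // (pGen m i).natDegree = e + 1}, K (RatFunc k) (n + 1)),
      (∀ i, y i ∈ polyK k (e + 1) (n + 1)) ∧
      (∀ i j : {i // (pGen m i).natDegree = e + 1}, i ≠ j → dAt (A := A) m j.1 n (y i) = 0) ∧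
      (∀ i, (QuotientAddGroup.mk (y i) : K (RatFunc k) (n + 1) ⧸ polyK k e (n + 1))
        = sect m A i n (dAt (A := A) m i.1 n (y i))) ∧
      (∀ i, i ∉ s → y i = 0) ∧ x - ∑ i ∈ s, y i ∈ polyK k e (n + 1) := by
  classical
  replace hx : x ∈ normalK k toRat (e + 1) (n + 1) := by
    refine (AddSubgroup.closure_le _).2 ?_ hx
    rintro _ ⟨f, hf, hd, rfl⟩
    exact psym_mem_normalK toRat (fun p hp _ => toRat_ne_zero hp) f hf hd
  induction hx using AddSubgroup.closure_induction with
  | zero => exact ⟨∅, 0, fun _ => zero_mem _, by simp, by simp, fun _ _ => rfl, by simp⟩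
  | neg a _ ha =>
    obtain ⟨s, y, h1, h2, h3, h4, h5⟩ := ha
    refine ⟨s, -y, fun i => neg_mem (h1 i), fun i j h => by simp [h2 i j h], fun i => by
      simp [h3 i], fun i hi => by simp [h4 i hi], ?_⟩
    convert neg_mem h5 using 1
    simp only [Pi.neg_apply, Finset.sum_neg_distrib]; abel
  | add a b _ _ ha hb =>
    obtain ⟨s, y, h1, h2, h3, h4, h5⟩ := ha
    obtain ⟨s', y', h1', h2', h3', h4', h5'⟩ := hb
    refine ⟨s ∪ s', y + y', fun i => add_mem (h1 i) (h1' i),
      fun i j h => by simp [h2 i j h, h2' i j h], fun i => by simp [h3 i, h3' i],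
      fun i hi => ?_, ?_⟩
    · rw [Finset.notMem_union] at hi
      simp [h4 i hi.1, h4' i hi.2]
    · convert add_mem h5 h5' using 1
      simp only [Pi.add_apply, Finset.sum_add_distrib]
      rw [← Finset.sum_subset (Finset.subset_union_left (s₂ := s')) (fun i _ hi => h4 i hi),
        ← Finset.sum_subset (Finset.subset_union_right (s₁ := s)) (fun i _ hi => h4' i hi)]
      abel
  | mem z hz =>
    obtain ⟨g, c, ⟨-, hcst, hirr, hinc⟩, rfl⟩ := hz
    have hg0 : ∀ l, g l ≠ 0 := by
      intro l
      rcases lt_or_ge (l : ℕ) c with h | h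
      · obtain ⟨u, hu⟩ := hcst l h; rw [hu]; simp
      · exact (hirr l h).1.ne_zero
    have hdeg : ∀ l, (g l).natDegree ≤ e + 1 := by
      intro l
      rcases lt_or_ge (l : ℕ) c with h | h
      · obtain ⟨u, hu⟩ := hcst l h; rw [hu]; simp
      · exact (hirr l h).2.2
    by_cases hall : ∀ l, (g l).natDegree ≤ e
    · exact ⟨∅, 0, fun _ => zero_mem _, by simp, fun _ => by simp, fun _ _ => rfl, by
        simpa using polyK_mem hg0 hall⟩
    push Not at hall
    obtain ⟨l, hl⟩ := hall
    have hle : (g l).natDegree = e + 1 := le_antisymm (hdeg l) hl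
    have hlc : c ≤ (l : ℕ) := by
      by_contra h
      obtain ⟨u, hu⟩ := hcst l (not_le.1 h)
      rw [hu, natDegree_C] at hle
      omega
    have hsmall : ∀ l', l' ≠ l → (g l').natDegree ≤ e := by
      intro l' hne
      by_contra h
      have hl' : (g l').natDegree = e + 1 := le_antisymm (hdeg l') (not_le.1 h)
      have hc' : c ≤ (l' : ℕ) := by
        by_contra h
        obtain ⟨u, hu⟩ := hcst l' (not_le.1 h)
        rw [hu, natDegree_C] at hl'
        omega
      rcases lt_or_gt_of_ne hne with h' | h'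
      · have := hinc l' l hc' h'; omega
      · have := hinc l l' hlc h'; omega
    obtain ⟨j, hj⟩ := exists_pGen_eq m (hirr l hlc).1 (hirr l hlc).2.1
    have hjd : (pGen m j).natDegree = e + 1 := by rw [hj, hle]
    set σ := Equiv.swap (0 : Fin (n + 1)) l
    let t : Fin n → k[X] := Fin.tail (g ∘ σ)
    have ht : (g ∘ σ) = Fin.cons (pGen m j) t := by
      conv_lhs => rw [← Fin.cons_self_tail (g ∘ σ)]
      simp [t, σ, hj]
    have hts : ∀ q, t q ≠ 0 ∧ (t q).natDegree ≤ e := fun q => by
      simp only [t, Fin.tail, Function.comp_apply]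
      refine ⟨hg0 _, hsmall _ fun h => Fin.succ_ne_zero q (σ.injective ?_)⟩
      rw [h]; simp [σ]
    have htnd : ∀ q, ¬ pGen m j ∣ t q := fun q =>
      not_dvd_of_degree_lt m (hts q).1 (hjd ▸ Nat.lt_succ_of_le (hts q).2)
    have hperm : psym toRat g = ((Equiv.Perm.sign σ : ℤˣ) : ℤ) •
        psym toRat (Fin.cons (pGen m j) t : Fin (n + 1) → k[X]) := by
      rw [← ht, psym, psym]
      rw [show (fun i => pUnit toRat ((g ∘ σ) i)) = (fun i => pUnit toRat (g i)) ∘ σ from rfl,
        symbol_perm, smul_smul, Int.units_coe_mul_self, one_smul]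
    have hsect : sect m A ⟨j, hjd⟩ n (dAt (A := A) m j n (psym toRat g))
        = QuotientAddGroup.mk (psym toRat g) := by
      rw [hperm, map_zsmul, dAt_cons_self m htnd, map_zsmul, sect_symbol, QuotientAddGroup.mk_zsmul]
      congr 4
      funext q
      refine eq_of_ev_eq (A := A) m (rep_degree m j _) (hjd ▸ Nat.lt_succ_of_le (hts q).2) ?_
      rw [ev_rep]
      exact congrArg (residue (A j)) (isUnit_map_of_not_dvd m (htnd q)).unit_spec
    refine ⟨{⟨j, hjd⟩}, fun i => if i = ⟨j, hjd⟩ then psym toRat g else 0, fun i => ?_,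
      fun i i' hne => ?_, fun i => ?_, fun i hi => if_neg (by simpa using hi), by simp⟩
    · dsimp only
      split_ifs
      · exact polyK_mem hg0 hdeg
      · exact zero_mem _
    · dsimp only
      split_ifs with h
      · subst h
        refine dAt_psym_eq_zero m fun q hd => ?_
        rcases eq_or_ne q l with rfl | hq
        · refine hne (Subtype.ext (pGen_injective m ?_)).symm
          exact eq_of_monic_of_associated (pGen_monic m _) (pGen_monic m _)
            ((pGen_irreducible m _).associated_of_dvd (pGen_irreducible m _) (by rwa [hj]))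
        · have := natDegree_le_of_dvd hd (hg0 q)
          have := hsmall q hq
          have := i'.2
          omega
      · simp
    · dsimp only
      split_ifs with h
      · subst h; exact hsect.symm
      · simp

theorem mem_polyK_of_dAt {e n : ℕ} {x : K (RatFunc k) (n + 1)} (hx : x ∈ polyK k (e + 1) (n + 1))
    (h : ∀ i, (pGen m i).natDegree = e + 1 → dAt (A := A) m i n x = 0) : x ∈ polyK k e (n + 1) := by
  classical
  obtain ⟨s, y, -, h2, h3, h4, h5⟩ := exists_sum (A := A) m hx
  have hy : ∀ i ∈ s, dAt (A := A) m i.1 n (y i) = 0 := by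
    intro i hi
    have := dAt_polyK (A := A) m (i := i.1) (by rw [i.2]; exact Nat.lt_succ_self e) h5
    rw [map_sub, h i.1 i.2, zero_sub, neg_eq_zero, map_sum] at this
    rwa [Finset.sum_eq_single_of_mem i hi fun l _ hl => h2 l i hl] at this
  have : ∀ i ∈ s, y i ∈ polyK k e (n + 1) := fun i hi => by
    rw [← QuotientAddGroup.eq_zero_iff, h3 i, hy i hi, map_zero]
  simpa using add_mem h5 (AddSubgroup.sum_mem _ this)

theorem exists_preimage_level {e n : ℕ} (y : ∀ i, K (ResidueField (A i)) n) (s : Finset ι)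
    (hs : ∀ i ∈ s, (pGen m i).natDegree = e + 1) :
    ∃ x ∈ polyK k (e + 1) (n + 1), (∀ i ∈ s, dAt (A := A) m i n x = y i) ∧
      ∀ i, i ∉ s → (pGen m i).natDegree = e + 1 → dAt (A := A) m i n x = 0 := by
  classical
  induction s using Finset.induction_on with
  | empty => exact ⟨0, zero_mem _, by simp, by simp⟩
  | insert a s ha ih =>
    obtain ⟨x, hx, h1, h2⟩ := ih fun i hi => hs i (Finset.mem_insert_of_mem hi)
    have had := hs a (Finset.mem_insert_self a s)
    obtain ⟨z, hz, -, hz1, hz2⟩ := exists_sect_lift (A := A) m ⟨a, had⟩ (y a)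
    refine ⟨x + z, add_mem hx hz, fun i hi => ?_, fun i hi hid => ?_⟩
    · rcases Finset.mem_insert.1 hi with rfl | hi
      · rw [map_add, h2 i ha had, hz1, zero_add]
      · rw [map_add, h1 i hi, hz2 i (fun h => ha (by rw [← show i = a from h]; exact hi)) (hs i (Finset.mem_insert_of_mem hi)),
          add_zero]
    · rw [Finset.mem_insert, not_or] at hi
      rw [map_add, h2 i hi.2 hid, hz2 i hi.1 hid, add_zero]

theorem map_C_eq_psym {n : ℕ} (v : Fin n → kˣ) :
    MilK.map (algebraMap k (RatFunc k)) n (symbol v) = psym toRat fun j => C (v j : k) := by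
  rw [map_symbol, psym]
  congr 1
  funext j
  apply Units.ext
  rw [pUnit_val _ (toRat_ne_zero (by simp))]
  simp [RatFunc.algebraMap_eq_C, RatFunc.algebraMap_C]

theorem polyK_zero_eq_range (n : ℕ) :
    polyK k 0 n = (MilK.map (algebraMap k (RatFunc k)) n).range := by
  apply le_antisymm
  · rw [polyK, AddSubgroup.closure_le]
    rintro _ ⟨f, hf, hd, rfl⟩
    have e : ∀ j, f j = C ((f j).coeff 0) := fun j => eq_C_of_natDegree_eq_zero (Nat.le_zero.1 (hd j))
    refine ⟨symbol fun j => Units.mk0 ((f j).coeff 0) fun h => hf j (by rw [e j, h, C_0]), ?_⟩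
    rw [map_C_eq_psym]
    congr 1; funext j; exact (e j).symm
  · rintro _ ⟨x, rfl⟩
    induction x using K_induction with
    | hs v => rw [map_C_eq_psym]; exact polyK_mem (fun j => by simp) fun j => by simp
    | h0 => simp
    | hadd p q hp hq => rw [map_add]; exact add_mem hp hq
    | hneg p hp => rw [map_neg]; exact neg_mem hp

theorem dAt_map_eq_zero (i : ι) {n : ℕ} (x : K k (n + 1)) :
    dAt (A := A) m i n (MilK.map (algebraMap k (RatFunc k)) (n + 1) x) = 0 :=
  dAt_polyK m (pGen_pos m i) (by rw [polyK_zero_eq_range]; exact ⟨x, rfl⟩)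

theorem mem_range_iff {n : ℕ} (x : K (RatFunc k) (n + 1)) :
    x ∈ (MilK.map (algebraMap k (RatFunc k)) (n + 1)).range ↔
      ∀ i, dAt (A := A) m i n x = 0 := by
  refine ⟨fun ⟨y, hy⟩ i => hy ▸ dAt_map_eq_zero m i y, fun h => ?_⟩
  obtain ⟨e, he⟩ := exists_mem_polyK x
  rw [← polyK_zero_eq_range]
  induction e with
  | zero => exact he
  | succ e ih => exact ih (mem_polyK_of_dAt m he fun i _ => h i)

theorem exists_preimage {n : ℕ} (y : ∀ i, K (ResidueField (A i)) n) (hy : {i | y i ≠ 0}.Finite) :
    ∃ x, ∀ i, dAt (A := A) m i n x = y i := by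
  classical
  suffices ∀ (e : ℕ) (y : ∀ i, K (ResidueField (A i)) n), {i | y i ≠ 0}.Finite →
      (∀ i, e < (pGen m i).natDegree → y i = 0) → ∃ x, ∀ i, dAt (A := A) m i n x = y i by
    refine this (hy.toFinset.sup fun i => (pGen m i).natDegree) y hy fun i hi => ?_
    by_contra h
    exact absurd (Finset.le_sup (f := fun i => (pGen m i).natDegree) (hy.mem_toFinset.2 h))
      (not_le.2 hi)
  intro e
  induction e with
  | zero => exact fun y _ h => ⟨0, fun i => by rw [map_zero, h i (pGen_pos m i)]⟩
  | succ e ih =>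
    intro y hy hsupp
    obtain ⟨x, hx, hx1, hx2⟩ := exists_preimage_level m y
      (hy.toFinset.filter fun i => (pGen m i).natDegree = e + 1)
      fun i hi => (Finset.mem_filter.1 hi).2
    obtain ⟨z, hz⟩ : ∃ z, ∀ i, dAt (A := A) m i n z = y i - dAt (A := A) m i n x := by
      refine ih _ ?_ ?_
      · refine (hy.union (finite_support_dAt (A := A) m x)).subset fun i hi => ?_
        by_contra h
        simp only [Set.mem_union, Set.mem_ofPred_eq, not_or, not_not] at h
        exact hi (by simp [h.1, h.2])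
      · intro i hi
        skip
        rcases eq_or_lt_of_le (Nat.succ_le_of_lt hi) with heq | hlt
        · by_cases hmem : y i = 0
          · rw [hmem, hx2 i (fun h => by simpa [hmem] using (Finset.mem_filter.1 h).1) heq.symm,
              sub_zero]
          · rw [hx1 i (Finset.mem_filter.2 ⟨hy.mem_toFinset.2 hmem, heq.symm⟩), sub_self]
        · rw [hsupp i hlt, dAt_polyK m hlt hx, sub_zero]
    exact ⟨x + z, fun i => by rw [map_add, hz i, add_sub_cancel]⟩

include m A in
theorem map_injective {n : ℕ} :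
    Injective (MilK.map (algebraMap k (RatFunc k)) n) := by
  obtain ⟨i, hi⟩ := exists_pGen_eq m monic_X irreducible_X
  let r : k →+* ResidueField (A i) := (ev A i).comp C
  have hr : Bijective r := by
    refine ⟨r.injective, fun y => ⟨(rep m A i y).coeff 0, ?_⟩⟩
    have h := rep_degree m i y
    rw [hi, natDegree_X] at h
    show ev A i (C _) = y
    rw [← eq_C_of_natDegree_eq_zero (Nat.lt_one_iff.1 h), ev_rep]
  let e := RingEquiv.ofBijective r hr
  refine LeftInverse.injective (g := fun z => MilK.map e.symm.toRingHom n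
    (spec (irreducible_pGen_map (A := A) m i) n z)) fun x => ?_
  have key : ∀ x : K k n, spec (irreducible_pGen_map (A := A) m i) n
      (MilK.map (algebraMap k (RatFunc k)) n x) = MilK.map r n x := by
    intro x
    induction x using K_induction with
    | hs v =>
      rw [map_C_eq_psym, map_symbol]
      have hnd : ∀ j, ¬ pGen m i ∣ C (v j : k) := fun j =>
        not_dvd_of_degree_lt m (by simp) (by simpa using pGen_pos m i)
      have : psym toRat (fun j => C (v j : k))
          = usym (A i) (RatFunc k) fun j => (isUnit_map_of_not_dvd m (hnd j)).unit := by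
        rw [psym, usym]; congr 1; funext j; exact pUnit_eq_unitToFrac m (hnd j)
      rw [this, spec_usym]
      congr 1; funext j; apply Units.ext
      exact congrArg (residue (A i)) (isUnit_map_of_not_dvd m (hnd j)).unit_spec
    | h0 => simp
    | hadd p q hp hq => simp only [map_add, hp, hq]
    | hneg p hp => simp only [map_neg, hp]
  show MilK.map e.symm.toRingHom n _ = x
  rw [key, map_map]
  conv_rhs => rw [← map_id' x]
  congr 2
  exact RingHom.ext fun c => e.symm_apply_apply c

end Local

end Groth.Agent.MilnorK
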